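import Groth.Agent.Lib.GrassSch26.Free
import Groth.Agent.Lib.PBDeg17.Exists

/-!
# Grassmannian bundles of locally free modules
-/

set_option autoImplicit false
set_option linter.style.haveILetI false
set_option backward.isDefEq.respectTransparency false
set_option synthInstance.maxHeartbeats 200000
universe u

noncomputable section

open CategoryTheory CategoryTheory.Limits AlgebraicGeometry Opposite TopologicalSpace
open GrothLib.RepLocal
open GrothLib.ExtPowX (wedge)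

namespace GrothLib.GrassSch26

variable {X : Scheme.{u}} {E : X.Modules} {r N₀ : ℕ} {G : Scheme.{u}} {π : G ⟶ X} {Q : G.Modules}
  {q : (Scheme.Modules.pullback π).obj E ⟶ Q}

theorem isQuasicoherent_of_rank (hE : FlatMod.IsFinLocFreeOfRank N₀ E) : E.IsQuasicoherent :=
  (Euler.isCoh_of_isFinLocFree (FinCov.isFinLocFree_of_rank hE)).1

theorem isFinLocFreeOfRank_wedge_choose (hE : FlatMod.IsFinLocFreeOfRank N₀ E) (k : ℕ) :
    FlatMod.IsFinLocFreeOfRank (N₀.choose k) (wedge E k) := fun p => by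
  obtain ⟨U, e, hp, he⟩ := FinCov.exists_frame_nhd_of_rank hE p
  refine ⟨U, hp, ?_⟩
  have hcard : Fintype.card (Set.powersetCard (Fin N₀) k) = N₀.choose k := by
    rw [← Nat.card_eq_fintype_card, Set.powersetCard.card, Nat.card_fin]
  exact hcard ▸ FinCov.exists_iso_of_frame (ExtPowX.isFrame_wedge he k)

section Cover

variable [E.IsQuasicoherent]

/-- A chart with coordinates from a basis, inside the Grassmannian bundle. -/
theorem exists_chart_of_isGrass (hG : Grass.IsGrass π E r Q q) (U : X.affineOpens) (J : Fin r → MS E U) :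
    ∃ b : (N U J).left ⟶ G, b ≫ π = (N U J).hom ∧ ∃ (_ : IsOpenImmersion b),
      b.opensRange = loc U J (Over.mk π) (mkQ (T := Over.mk π) q hG.epi hG.rank) := by
  obtain ⟨b, -, hI, hr⟩ := exists_chart_hom U J (rep_of_isGrass hG)
  exact ⟨b.left, Over.w b, hI, hr⟩

theorem exists_cover_point (hE : FlatMod.IsFinLocFreeOfRank N₀ E) (hG : Grass.IsGrass π E r Q q) (p : G) {O : X.Opens}
    (hp : π p ∈ O) :
    ∃ (U : X.affineOpens) (b : Module.Basis (Fin N₀) Γ((S0 U).left, ⊤) (MS E U)) (σ : Fin r → Fin N₀),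
      Function.Injective σ ∧ π p ∈ U.1 ∧ U.1 ≤ O ∧
      p ∈ loc U (fun d => b (σ d)) (Over.mk π) (mkQ (T := Over.mk π) q hG.epi hG.rank) := by
  obtain ⟨U, hU, hle, ⟨b⟩⟩ := exists_basis_MS hE (π p) hp
  obtain ⟨σ, hσ, hm⟩ := exists_mem_loc_basis U b (Over.mk π) (mkQ (T := Over.mk π) q hG.epi hG.rank) p hU
  exact ⟨U, b, σ, hσ, hU, hle, hm⟩

end Cover

theorem smoothOfRelativeDimension_isGrass (hE : FlatMod.IsFinLocFreeOfRank N₀ E) (hG : Grass.IsGrass π E r Q q) :
    SmoothOfRelativeDimension (r * (N₀ - r)) π := by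
  haveI := isQuasicoherent_of_rank hE
  let ι := Σ U : X.affineOpens, Σ' (b : Module.Basis (Fin N₀) Γ((S0 U).left, ⊤) (MS E U)) (σ : Fin r → Fin N₀),
    Function.Injective σ
  let O : ι → G.Opens := fun i =>
    loc i.1 (fun d => i.2.1 (i.2.2.1 d)) (Over.mk π) (mkQ (T := Over.mk π) q hG.epi hG.rank)
  have hO : iSup O = ⊤ := eq_top_iff.2 fun p _ => by
    obtain ⟨U, b, σ, hσ, -, -, hm⟩ := exists_cover_point hE hG p (O := ⊤) trivial
    exact Opens.mem_iSup.2 ⟨⟨U, b, σ, hσ⟩, hm⟩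
  rw [IsZariskiLocalAtSource.iff_of_iSup_eq_top (P := @SmoothOfRelativeDimension (r * (N₀ - r))) O hO]
  intro i
  obtain ⟨U, b, σ, hσ⟩ := i
  obtain ⟨bN, hb, hI, hr⟩ := exists_chart_of_isGrass hG U (fun d => b (σ d))
  haveI := hI
  show SmoothOfRelativeDimension (r * (N₀ - r)) (Scheme.Opens.ι (O ⟨U, b, σ, hσ⟩) ≫ π)
  rw [show O ⟨U, b, σ, hσ⟩ = bN.opensRange from hr.symm,
    ← IsOpenImmersion.isoOfRangeEq_inv_fac bN (Scheme.Opens.ι bN.opensRange)
      (congr_arg Opens.carrier bN.opensRange.opensRange_ι.symm), Category.assoc,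
    MorphismProperty.cancel_left_of_respectsIso (@SmoothOfRelativeDimension (r * (N₀ - r))), hb]
  exact smoothOfRelativeDimension_chart U b σ hσ

theorem surjective_isGrass (hE : FlatMod.IsFinLocFreeOfRank N₀ E) (hr : r ≤ N₀) (hG : Grass.IsGrass π E r Q q) :
    Surjective π := by
  haveI := isQuasicoherent_of_rank hE
  refine ⟨fun x => ?_⟩
  obtain ⟨U, hU, -, ⟨b⟩⟩ := exists_basis_MS hE x (O := ⊤) trivial
  obtain ⟨p, hp⟩ := surjective_chart_to U b (Fin.castLE hr) (Fin.castLE_injective hr) x hU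
  obtain ⟨bN, hb, -⟩ := exists_chart_of_isGrass hG U (fun d => b (Fin.castLE hr d))
  exact ⟨bN p, (Scheme.Hom.comp_apply bN π p).symm.trans ((congrArg (fun f : _ ⟶ X => f p) hb).trans hp)⟩

theorem isProper_isGrass (hE : FlatMod.IsFinLocFreeOfRank N₀ E) (hG : Grass.IsGrass π E r Q q) : IsProper π := by
  haveI := isQuasicoherent_of_rank hE
  have hw := isFinLocFreeOfRank_wedge_choose hE r
  haveI := isQuasicoherent_of_rank hw
  obtain ⟨P, p, O1, a, hP, -, hprop⟩ := PBDeg.exists_isProjBundle hw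
  have hP' := Grass.IsGrass.of_isProjBundle hP
  obtain ⟨c, hc⟩ := exists_closedImmersion (rep_of_isGrass hG) (rep_of_isGrass hP')
  haveI := hc
  haveI := hprop
  rw [show π = c.left ≫ p from (Over.w c).symm]
  exact MorphismProperty.comp_mem _ _ _ inferInstance inferInstance

theorem isPreirreducible_loc [E.IsQuasicoherent] [IrreducibleSpace X] (hG : Grass.IsGrass π E r Q q)
    (U : X.affineOpens) (b : Module.Basis (Fin N₀) Γ((S0 U).left, ⊤) (MS E U)) (σ : Fin r → Fin N₀)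
    (hσ : Function.Injective σ) :
    IsPreirreducible
      (SetLike.coe (loc U (fun d => b (σ d)) (Over.mk π) (mkQ (T := Over.mk π) q hG.epi hG.rank)) : Set G) := by
  by_cases hne : (U.1 : Set X).Nonempty
  · haveI := irreducibleSpace_chart U b σ hσ hne
    obtain ⟨bN, -, hI, hr⟩ := exists_chart_of_isGrass hG U (fun d => b (σ d))
    rw [← hr, Scheme.Hom.coe_opensRange, ← Set.image_univ]
    exact (PreirreducibleSpace.isPreirreducible_univ).image bN (Scheme.Hom.continuous bN).continuousOn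
  · intro u v hu hv h1 h2
    obtain ⟨p, hp, -⟩ := h1
    exact absurd ⟨π p, loc_le U (fun d => b (σ d)) (Over.mk π) _ hp⟩ hne

theorem irreducibleSpace_isGrass [IrreducibleSpace X] (hE : FlatMod.IsFinLocFreeOfRank N₀ E) (hr : r ≤ N₀)
    (hG : Grass.IsGrass π E r Q q) : IrreducibleSpace G := by
  haveI := isQuasicoherent_of_rank hE
  haveI : Surjective π := surjective_isGrass hE hr hG
  haveI : Nonempty G := by
    obtain ⟨x⟩ := ‹IrreducibleSpace X›.toNonempty
    exact ⟨(π.surjective x).choose⟩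
  let m : Obj E r (Over.mk π) := mkQ (T := Over.mk π) q hG.epi hG.rank
  have tr : ∀ (A B C : Set G), IsPreirreducible B → IsOpen A → IsOpen C → (A ∩ B).Nonempty → (B ∩ C).Nonempty →
      (A ∩ C).Nonempty := fun A B C hB hA hC h1 h2 => by
    obtain ⟨z, -, hz⟩ := hB A C hA hC (by rwa [Set.inter_comm] at h1) h2
    exact ⟨z, hz⟩
  have meet : ∀ (U : X.affineOpens) (b : Module.Basis (Fin N₀) Γ((S0 U).left, ⊤) (MS E U)) (σ : Fin r → Fin N₀),
      Function.Injective σ → (U.1 : Set X).Nonempty → ∀ (O : X.Opens), (↑U.1 ∩ (O : Set X)).Nonempty →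
      ∃ p, p ∈ loc U (fun d => b (σ d)) (Over.mk π) m ∧ π p ∈ O := by
    intro U b σ hσ _ O ⟨x, hxU, hxO⟩
    obtain ⟨z, hz⟩ := surjective_chart_to U b σ hσ x hxU
    obtain ⟨bN, hb, hI, hr'⟩ := exists_chart_of_isGrass hG U (fun d => b (σ d))
    refine ⟨bN z, hr'.le ⟨z, rfl⟩, ?_⟩
    rw [← Scheme.Hom.comp_apply, hb, hz]
    exact hxO
  suffices PreirreducibleSpace G from ⟨inferInstance⟩
  refine ⟨fun A B hA hB ⟨p, _, hpA⟩ ⟨p', _, hp'B⟩ => ?_⟩
  obtain ⟨U, b, σ, hσ, hU, -, hp⟩ := exists_cover_point hE hG p (O := ⊤) trivial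
  obtain ⟨U', b', σ', hσ', hU', -, hp'⟩ := exists_cover_point hE hG p' (O := ⊤) trivial
  let C : Set G := SetLike.coe (loc U (fun d => b (σ d)) (Over.mk π) m)
  let C' : Set G := SetLike.coe (loc U' (fun d => b' (σ' d)) (Over.mk π) m)
  have hC : IsPreirreducible C := isPreirreducible_loc hG U b σ hσ
  have hC' : IsPreirreducible C' := isPreirreducible_loc hG U' b' σ' hσ'
  have hUU : (↑U.1 ∩ (U'.1 : Set X)).Nonempty :=
    nonempty_preirreducible_inter U.1.2 U'.1.2 ⟨_, hU⟩ ⟨_, hU'⟩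
  obtain ⟨w, hwC, hwU'⟩ := meet U b σ hσ ⟨_, hU⟩ U'.1 hUU
  obtain ⟨τ, hτ, hw⟩ := exists_mem_loc_basis U' b' (Over.mk π) m w hwU'
  let D : Set G := SetLike.coe (loc U' (fun d => b' (τ d)) (Over.mk π) m)
  have hD : IsPreirreducible D := isPreirreducible_loc hG U' b' τ hτ
  obtain ⟨w', hw'D, hw'C⟩ := exists_chart_meet U' b' hτ hσ' (rep_of_isGrass hG) ⟨_, hU'⟩
  have h1 : (C ∩ C').Nonempty := tr C D C' hD (loc U _ _ m).2 (loc U' _ _ m).2 ⟨w, hwC, hw⟩ ⟨w', hw'D, hw'C⟩
  have h2 : (A ∩ C').Nonempty := tr A C C' hC hA (loc U' _ _ m).2 ⟨p, hpA, hp⟩ h1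
  obtain ⟨z, hz⟩ := tr A C' B hC' hA hB h2 ⟨p', hp', hp'B⟩
  exact ⟨z, trivial, hz⟩

end GrothLib.GrassSch26
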