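import Groth.Agent.Lib.QuotTan26.Stalk
import Groth.Agent.Lib.FreeRetract9.Basic
import Groth.Agent.Lib.Euler.Rank
import Groth.Agent.Lib.FinCov.Frame
import Groth.Agent.Lib.OX.OneDegLocus
import Groth.Agent.Lib.FittSheaf.Generators
import Groth.Agent.Lib.WeakAss.Basic

/-!
# Sections generating a locally free module of known rank
-/

set_option autoImplicit false
set_option linter.style.haveILetI false
set_option backward.isDefEq.respectTransparency false
universe u

noncomputable section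

open CategoryTheory CategoryTheory.Limits AlgebraicGeometry Opposite TopologicalSpace
open GrothLib.QCoh (stalkLin stalkLin_comp stalkLin_germ)
open GrothLib.QuotTan26

namespace GrothLib.GrassSch26

variable {Y Y' : Scheme.{u}} {Q : Y.Modules} {r : ℕ}

theorem nonempty_stalk_basis (hQ : FlatMod.IsFinLocFreeOfRank r Q) (y : Y) :
    Nonempty (Module.Basis (Fin r) (Y.presheaf.stalk y) (Q.presheaf.stalk y)) := by
  obtain ⟨U, e, hy, he⟩ := FinCov.exists_frame_nhd_of_rank hQ y
  exact Euler.stalk_basis_of_frame he hy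

/-- The germs of global sections generate the stalk. -/
def SpanAt (s : Fin r → Γ(Q, ⊤)) (y : Y) : Prop :=
  Submodule.span (Y.presheaf.stalk y) (Set.range fun c => Q.presheaf.germ ⊤ y trivial (s c)) = ⊤

theorem span_germ_frame {U : Y.Opens} {e : Fin r → Γ(Q, U)} (he : FinCov.IsFrame Q U e) {y : Y} (hy : y ∈ U) :
    Submodule.span (Y.presheaf.stalk y) (Set.range fun c => Q.presheaf.germ U y hy (e c)) = ⊤ := by
  refine eq_top_iff.2 fun v _ => ?_
  obtain ⟨W, hW, m, rfl⟩ := TopCat.Presheaf.exists_germ_eq Q.presheaf v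
  obtain ⟨c, hc⟩ := (he (W ⊓ U) inf_le_right).2 (Q.presheaf.map (homOfLE inf_le_left).op m)
  have h1 := congrArg (Q.presheaf.germ (W ⊓ U) y ⟨hW, hy⟩) hc
  rw [GrothLib.QCoh.germ_map, map_sum] at h1
  rw [← h1]
  refine Submodule.sum_mem _ fun i _ => ?_
  rw [WeakAss.germ_smul, GrothLib.QCoh.germ_map]
  exact Submodule.smul_mem _ _ (Submodule.subset_span ⟨i, rfl⟩)

theorem exists_nhd_spanAt (hQ : FlatMod.IsFinLocFreeOfRank r Q) (s : Fin r → Γ(Q, ⊤)) {y : Y} (h : SpanAt s y) :
    ∃ O : Y.Opens, y ∈ O ∧ ∀ z ∈ O, SpanAt s z := by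
  classical
  obtain ⟨U, e, hy, he⟩ := FinCov.exists_frame_nhd_of_rank hQ y
  have hc : ∀ i, ∃ (W : Y.Opens) (_ : y ∈ W) (hWU : W ≤ U) (c : Fin r → Γ(Y, W)),
      Q.presheaf.map (homOfLE hWU).op (e i) = ∑ j, c j • Q.presheaf.map (homOfLE (le_top : W ≤ ⊤)).op (s j) := by
    intro i
    have hm : Q.presheaf.germ U y hy (e i) ∈ Submodule.span (Y.presheaf.stalk y)
        (Set.range fun c => Q.presheaf.germ ⊤ y trivial (s c)) := by rw [h]; trivial
    obtain ⟨a, ha⟩ := (Submodule.mem_span_range_iff_exists_fun _).1 hm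
    choose T hT c hc using fun j => TopCat.Presheaf.exists_germ_eq Y.presheaf (a j)
    let T₀ : Y.Opens := ⟨⋂ j, (T j : Set Y), isOpen_iInter_of_finite fun j => (T j).2⟩ ⊓ U
    have hT₀ : ∀ j, T₀ ≤ T j := fun j z hz => Set.mem_iInter.1 hz.1 j
    have hy₀ : y ∈ T₀ := ⟨Set.mem_iInter.2 hT, hy⟩
    have hg : Q.presheaf.germ T₀ y hy₀ (Q.presheaf.map (homOfLE (inf_le_right : T₀ ≤ U)).op (e i)) =
        Q.presheaf.germ T₀ y hy₀ (∑ j, Y.presheaf.map (homOfLE (hT₀ j)).op (c j) •
          Q.presheaf.map (homOfLE (le_top : T₀ ≤ ⊤)).op (s j)) := by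
      rw [GrothLib.QCoh.germ_map, map_sum, ← ha]
      refine Finset.sum_congr rfl fun j _ => ?_
      rw [WeakAss.germ_smul, GrothLib.QCoh.germ_map, TopCat.Presheaf.germ_res_apply, hc]
    obtain ⟨W, hW, i₁, i₂, e'⟩ := TopCat.Presheaf.germ_eq Q.presheaf y hy₀ hy₀ _ _ hg
    obtain rfl : i₁ = i₂ := Subsingleton.elim _ _
    refine ⟨W, hW, i₁.le.trans inf_le_right, fun j => Y.presheaf.map i₁.op (Y.presheaf.map (homOfLE (hT₀ j)).op (c j)), ?_⟩
    refine section_ext' fun z hz => ?_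
    have e'' := congrArg (Q.presheaf.germ W z hz) e'
    simp only [map_sum, WeakAss.germ_smul, TopCat.Presheaf.germ_res_apply] at e'' ⊢
    exact (GrothLib.QCoh.germ_map Q _ _ _).symm.trans e''
  choose W hW hWU c hc using hc
  let O : Y.Opens := ⟨⋂ i, (W i : Set Y), isOpen_iInter_of_finite fun i => (W i).2⟩ ⊓ U
  refine ⟨O, ⟨Set.mem_iInter.2 hW, hy⟩, fun z hz => eq_top_iff.2 ((span_germ_frame he hz.2).ge.trans ?_)⟩
  rw [Submodule.span_le]
  rintro _ ⟨i, rfl⟩
  have hzi : z ∈ W i := Set.mem_iInter.1 hz.1 i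
  have h1 := congrArg (Q.presheaf.germ (W i) z hzi) (hc i)
  rw [GrothLib.QCoh.germ_map, map_sum] at h1
  show Q.presheaf.germ U z hz.2 (e i) ∈ _
  rw [h1]
  refine Submodule.sum_mem _ fun j _ => ?_
  rw [WeakAss.germ_smul, GrothLib.QCoh.germ_map]
  exact Submodule.smul_mem _ _ (Submodule.subset_span ⟨j, rfl⟩)
where
  section_ext' {W : Y.Opens} {a b : Γ(Q, W)}
      (h : ∀ (z : Y) (hz : z ∈ W), Q.presheaf.germ W z hz a = Q.presheaf.germ W z hz b) : a = b := by
    rw [← sub_eq_zero]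
    exact GrothLib.QCoh.section_eq_zero_of_germ Q _ fun z hz => by rw [map_sub, h z hz, sub_self]

theorem bijective_of_span {R : Type u} [CommRing R] {M N : Type u} [AddCommGroup M] [AddCommGroup N] [Module R M]
    [Module R N] (b : Module.Basis (Fin r) R M) (b' : Module.Basis (Fin r) R N) (f : M →ₗ[R] N)
    (h : Function.Surjective f) : Function.Bijective f := by
  let e : N ≃ₗ[R] M := b'.equiv b (Equiv.refl _)
  haveI := Module.Finite.of_basis b
  exact ⟨fun x y hxy => OrzechProperty.injective_of_surjective_endomorphism (e.toLinearMap.comp f)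
    (e.surjective.comp h) (congrArg e hxy), h⟩

theorem isIso_lift (hQ : FlatMod.IsFinLocFreeOfRank r Q) (s : Fin r → Γ(Q, ⊤)) (h : ∀ y, SpanAt s y) :
    IsIso (FreeRetract9.lift s) := by
  refine (OX.isIso_iff _).2 fun y => (ConcreteCategory.isIso_iff_bijective _).2 ?_
  change Function.Bijective (stalkLin (FreeRetract9.lift s) y)
  obtain ⟨b⟩ := nonempty_stalk_basis (Q := FlatMod.freeMod Y r) (r := r)
    (fun _ => ⟨⊤, trivial, ⟨DCoh.restrictFreeModIso _ r⟩⟩) y
  obtain ⟨b'⟩ := nonempty_stalk_basis hQ y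
  refine bijective_of_span b b' _ (LinearMap.range_eq_top.1 (eq_top_iff.2 ?_))
  rw [← h y, Submodule.span_le]
  rintro _ ⟨c, rfl⟩
  refine ⟨(FlatMod.freeMod Y r).presheaf.germ ⊤ y trivial (ASBun21.std Y c ⊤), ?_⟩
  rw [stalkLin_germ, FreeRetract9.lift_std]

theorem exists_coeff (hQ : FlatMod.IsFinLocFreeOfRank r Q) (s : Fin r → Γ(Q, ⊤)) (h : ∀ y, SpanAt s y)
    (v : Γ(Q, ⊤)) : ∃! c : Fin r → Γ(Y, ⊤), ∑ i, c i • s i = v := by
  haveI := isIso_lift hQ s h
  let f := FreeRetract9.lift s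
  have key : ∀ c : Fin r → Γ(Y, ⊤), ∑ i, c i • s i = f.app ⊤ (∑ i, c i • ASBun21.std Y i ⊤) := fun c => by
    rw [map_sum]
    exact Finset.sum_congr rfl fun i _ => by rw [Scheme.Modules.Hom.app_smul, FreeRetract9.lift_std]
  obtain ⟨c, hc⟩ := (ASBun21.std_bijective Y (⊤ : Y.Opens)).2 ((inv f).app ⊤ v)
  have hinv : f.app ⊤ ((inv f).app ⊤ v) = v :=
    congrArg (fun φ : Q ⟶ Q => φ.app ⊤ v) (IsIso.inv_hom_id f)
  refine ⟨c, (key c).trans ((congrArg (f.app ⊤) hc).trans hinv), fun c' hc' => ?_⟩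
  refine (ASBun21.std_bijective Y (⊤ : Y.Opens)).1 (Eq.trans ?_ hc.symm)
  rw [← hinv] at hc'
  have h2 := congrArg ((inv f).app ⊤) ((key c').symm.trans hc')
  have hid : ∀ w, (inv f).app ⊤ (f.app ⊤ w) = w := fun w =>
    congrArg (fun φ : FlatMod.freeMod Y r ⟶ FlatMod.freeMod Y r => φ.app ⊤ w) (IsIso.hom_inv_id f)
  rwa [hid, hid] at h2

theorem spanAt_pullSec (f : Y' ⟶ Y) (s : Fin r → Γ(Q, ⊤)) {y : Y'} (h : SpanAt s (f y)) :
    SpanAt (Q := (Scheme.Modules.pullback f).obj Q) (fun c => OX.pullSec f Q ⊤ (s c)) y := by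
  refine eq_top_iff.2 ((span_range_uS f Q y).ge.trans (Submodule.span_le.2 ?_))
  rintro _ ⟨v, rfl⟩
  have hv : v ∈ Submodule.span (Y.presheaf.stalk (f y))
      (Set.range fun c => Q.presheaf.germ ⊤ (f y) trivial (s c)) := by rw [h]; trivial
  obtain ⟨a, rfl⟩ := (Submodule.mem_span_range_iff_exists_fun _).1 hv
  rw [map_sum]
  refine Submodule.sum_mem _ fun c _ => ?_
  rw [uS_smul]
  refine Submodule.smul_mem _ _ (Submodule.subset_span ⟨c, ?_⟩)
  exact (uS_germ f Q y (U := ⊤) trivial (s c)).symm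

theorem spanAt_of_pullSec (f : Y' ⟶ Y) (hQ : FlatMod.IsFinLocFreeOfRank r Q) (s : Fin r → Γ(Q, ⊤)) {y : Y'}
    (h : SpanAt (Q := (Scheme.Modules.pullback f).obj Q) (fun c => OX.pullSec f Q ⊤ (s c)) y) :
    SpanAt s (f y) := by
  classical
  obtain ⟨b⟩ := nonempty_stalk_basis hQ (f y)
  obtain ⟨b'⟩ := nonempty_stalk_basis (OX.isFinLocFreeOfRank_pullback f hQ) y
  have hspan : ⊤ ≤ Submodule.span (Y'.presheaf.stalk y) (Set.range fun i => uS f Q y (b i)) := by
    refine (span_range_uS f Q y).ge.trans (Submodule.span_le.2 ?_)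
    rintro _ ⟨v, rfl⟩
    rw [← b.sum_repr v, map_sum]
    refine Submodule.sum_mem _ fun i _ => ?_
    rw [uS_smul]
    exact Submodule.smul_mem _ _ (Submodule.subset_span ⟨i, rfl⟩)
  have hli : LinearIndependent (Y'.presheaf.stalk y) fun i => uS f Q y (b i) := by
    rw [Fintype.linearIndependent_iff]
    intro g hg
    have hs : Function.Surjective (Fintype.linearCombination (Y'.presheaf.stalk y) fun i => uS f Q y (b i)) := by
      rw [← LinearMap.range_eq_top, Fintype.range_linearCombination]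
      exact top_le_iff.1 hspan
    have hb := bijective_of_span (Pi.basisFun (Y'.presheaf.stalk y) (Fin r)) b' _ hs
    exact congrFun (hb.1 (a₁ := g) (a₂ := 0) (by rw [map_zero, Fintype.linearCombination_apply, hg]))
  let ub := Module.Basis.mk hli hspan
  let M : Matrix (Fin r) (Fin r) (Y.presheaf.stalk (f y)) :=
    b.toMatrix fun c => Q.presheaf.germ ⊤ (f y) trivial (s c)
  let φ := (f.stalkMap y).hom
  have hM : M.map φ = ub.toMatrix fun c =>
      ((Scheme.Modules.pullback f).obj Q).presheaf.germ ⊤ y trivial (OX.pullSec f Q ⊤ (s c)) := by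
    ext i c
    rw [Module.Basis.toMatrix_apply]
    have e : ((Scheme.Modules.pullback f).obj Q).presheaf.germ ⊤ y trivial (OX.pullSec f Q ⊤ (s c)) =
        ∑ j, φ (M j c) • ub j := by
      refine (uS_germ f Q y (U := ⊤) trivial (s c)).symm.trans ?_
      conv_lhs => rw [← b.sum_repr (Q.presheaf.germ ⊤ (f y) trivial (s c)), map_sum]
      refine Finset.sum_congr rfl fun j _ => ?_
      rw [uS_smul, Module.Basis.mk_apply]
      rfl
    rw [e, Module.Basis.repr_sum_self]
    rfl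
  have hu : IsUnit (M.map φ).det := by
    rw [hM, ← Module.Basis.det_apply, ← Module.Basis.is_basis_iff_det]
    refine ⟨?_, h⟩
    rw [Fintype.linearIndependent_iff]
    intro g hg
    have hs : Function.Surjective (Fintype.linearCombination (Y'.presheaf.stalk y) fun c =>
        ((Scheme.Modules.pullback f).obj Q).presheaf.germ ⊤ y trivial (OX.pullSec f Q ⊤ (s c))) := by
      rw [← LinearMap.range_eq_top, Fintype.range_linearCombination]
      exact h
    have hb := bijective_of_span (Pi.basisFun (Y'.presheaf.stalk y) (Fin r)) b' _ hs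
    exact congrFun (hb.1 (a₁ := g) (a₂ := 0) (by rw [map_zero, Fintype.linearCombination_apply, hg]))
  rw [show (M.map φ).det = φ M.det from (RingHom.map_det φ M).symm, isUnit_map_iff φ] at hu
  rw [Module.Basis.det_apply b _ |>.symm, ← Module.Basis.is_basis_iff_det] at hu
  exact hu.2

end GrothLib.GrassSch26
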