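import Groth.Agent.Lib.GrassSch26.Sheaf
import Groth.Agent.Lib.GrassSch26.Frame
import Groth.Agent.Lib.PPGen.TildeHom
import Groth.Agent.Lib.FittSheaf.Pullback
import Mathlib.Algebra.MvPolynomial.Eval

/-!
# The standard charts of the Grassmannian of a quasi-coherent module
-/

set_option autoImplicit false
set_option linter.style.haveILetI false
set_option backward.isDefEq.respectTransparency false
set_option synthInstance.maxHeartbeats 200000
set_option maxHeartbeats 800000
set_option linter.unusedSectionVars false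
universe u

noncomputable section

open CategoryTheory CategoryTheory.Limits AlgebraicGeometry Opposite TopologicalSpace
open GrothLib.QCoh (stalkLin stalkLin_comp stalkLin_germ stalkLin_injective)
open GrothLib.QuotTan26 GrothLib.GrassCat26 GrothLib.RepLocal

namespace GrothLib.GrassSch26

variable {X : Scheme.{u}} {E : X.Modules} [E.IsQuasicoherent] {r : ℕ}

/-- An affine open, over the base. -/
abbrev S0 (U : X.affineOpens) : Over X := Over.mk U.2.fromSpec

instance (T : Over X) (U : X.affineOpens) : Subsingleton (T ⟶ S0 U) :=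
  ⟨fun a b => Over.OverMorphism.ext ((cancel_mono U.2.fromSpec).1 ((Over.w a).trans (Over.w b).symm))⟩

variable (E) in
/-- The sections of the module over an affine open. -/
abbrev MS (U : X.affineOpens) : Type u := Γ(EP E (S0 U), (⊤ : (S0 U).left.Opens))

variable (U : X.affineOpens)

theorem surjective_stalkLin_iso {Y : Scheme.{u}} {M N : Y.Modules} (e : M ⟶ N) [Epi e] (y : Y) :
    Function.Surjective (stalkLin e y) := stalkLin_surjective e y

omit [E.IsQuasicoherent] in
theorem homEquiv_app {Y Z : Scheme.{u}} (f : Y ⟶ Z) {M : Z.Modules} {N : Y.Modules}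
    (ψ : (Scheme.Modules.pullback f).obj M ⟶ N) (V : Z.Opens) (m : Γ(M, V)) :
    ((Scheme.Modules.pullbackPushforwardAdjunction f).homEquiv _ _ ψ).app V m =
      ψ.app (f ⁻¹ᵁ V) (OX.pullSec f M V m) := by
  rw [Adjunction.homEquiv_unit]
  rfl

theorem isQuasicoherent_EP (T : Over X) : (EP E T).IsQuasicoherent :=
  FittSheaf.isQuasicoherent_pullback T.hom E

theorem hom_ext_secT {T : Over X} (a : T ⟶ S0 U) {N : T.left.Modules} {φ ψ : EP E T ⟶ N}
    (h : ∀ m : MS E U, φ.app ⊤ (secT a m) = ψ.app ⊤ (secT a m)) : φ = ψ := by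
  haveI := isQuasicoherent_EP (E := E) (S0 U)
  rw [← cancel_epi (inv (bc a (𝟙 (EP E (S0 U)))))]
  refine ((Scheme.Modules.pullbackPushforwardAdjunction a.left).homEquiv _ _).injective ?_
  refine PPGen.hom_ext_top (R := Γ(X, U.1)) _ _ _ _ fun m => ?_
  rw [homEquiv_app, homEquiv_app]
  exact h m

theorem exists_hom_secT {T : Over X} (a : T ⟶ S0 U) (N : T.left.Modules) (g : MS E U →+ Γ(N, (⊤ : T.left.Opens)))
    (hg : ∀ (c : Γ((S0 U).left, ⊤)) (m : MS E U), g (c • m) = a.left.appTop c • g m) :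
    ∃ φ : EP E T ⟶ N, ∀ m, φ.app ⊤ (secT a m) = g m := by
  haveI := isQuasicoherent_EP (E := E) (S0 U)
  obtain ⟨u, hu⟩ := PPGen.exists_hom_top (R := Γ(X, U.1)) (EP E (S0 U))
    ((Scheme.Modules.pushforward a.left).obj N) g fun c m => hg _ m
  refine ⟨bc a (𝟙 (EP E (S0 U))) ≫
    ((Scheme.Modules.pullbackPushforwardAdjunction a.left).homEquiv _ _).symm u, fun m => ?_⟩
  refine Eq.trans ?_ (hu m)
  refine Eq.trans ?_ (congrArg (fun v => Scheme.Modules.Hom.app v ⊤ m)
    (((Scheme.Modules.pullbackPushforwardAdjunction a.left).homEquiv _ _).apply_symm_apply u))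
  rw [homEquiv_app]
  show (((Scheme.Modules.pullbackPushforwardAdjunction a.left).homEquiv _ _).symm u).app _
    ((bc a (𝟙 (EP E (S0 U)))).app _ (secT a m)) = _
  rw [bc_app]
  rfl

section Quot

variable {T : Over X} (a : T ⟶ S0 U) (J : Fin r → MS E U)

/-- The images of the chosen sections. -/
abbrev jsec {Q : T.left.Modules} (q : EP E T ⟶ Q) : Fin r → Γ(Q, ⊤) := fun c => q.app ⊤ (secT a (J c))

/-- The chosen sections give a frame of the quotient. -/
def Good {Q : T.left.Modules} (q : EP E T ⟶ Q) : Prop :=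
  FlatMod.IsFinLocFreeOfRank r Q ∧ ∀ y, SpanAt (jsec U a J q) y

variable {Q Q' : T.left.Modules} {q : EP E T ⟶ Q} {q' : EP E T ⟶ Q'}

/-- `l` gives the coordinates of the quotient map. -/
def IsCoeff (q : EP E T ⟶ Q) (l : MS E U → Fin r → Γ(T.left, ⊤)) : Prop :=
  ∀ m, q.app ⊤ (secT a m) = ∑ c, l m c • jsec U a J q c

variable {U a J}

theorem Good.exists_coeff (h : Good U a J q) : ∃ l, IsCoeff U a J q l := by
  choose l hl using fun m => (GrassSch26.exists_coeff h.1 _ h.2 (q.app ⊤ (secT a m))).exists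
  exact ⟨l, fun m => (hl m).symm⟩

theorem Good.eq_of_sum (h : Good U a J q) {c c' : Fin r → Γ(T.left, ⊤)}
    (e : ∑ i, c i • jsec U a J q i = ∑ i, c' i • jsec U a J q i) : c = c' :=
  (GrassSch26.exists_coeff h.1 _ h.2 _).unique e rfl

theorem Good.coeff_unique (h : Good U a J q) {l l' : MS E U → Fin r → Γ(T.left, ⊤)} (hl : IsCoeff U a J q l)
    (hl' : IsCoeff U a J q l') : l = l' :=
  funext fun m => h.eq_of_sum ((hl m).symm.trans (hl' m))

theorem Good.exists_iso (h : Good U a J q) (h' : Good U a J q') {l : MS E U → Fin r → Γ(T.left, ⊤)}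
    (hl : IsCoeff U a J q l) (hl' : IsCoeff U a J q' l) : ∃ e : Q ≅ Q', q ≫ e.hom = q' := by
  haveI := isIso_lift h.1 _ h.2
  haveI := isIso_lift h'.1 _ h'.2
  refine ⟨(asIso (FreeRetract9.lift (jsec U a J q))).symm ≪≫ asIso (FreeRetract9.lift (jsec U a J q')),
    hom_ext_secT U a fun m => ?_⟩
  show (inv (FreeRetract9.lift (jsec U a J q)) ≫ FreeRetract9.lift (jsec U a J q')).app ⊤ (q.app ⊤ (secT a m)) = _
  rw [hl m, hl' m, map_sum]
  refine Finset.sum_congr rfl fun c _ => ?_
  rw [Scheme.Modules.Hom.app_smul]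
  refine congrArg _ ?_
  show (FreeRetract9.lift (jsec U a J q')).app ⊤ ((inv (FreeRetract9.lift (jsec U a J q))).app ⊤ _) = _
  rw [← FreeRetract9.lift_std (jsec U a J q') c]
  refine congrArg _ ?_
  rw [← FreeRetract9.lift_std (jsec U a J q) c]
  exact congrArg (fun φ : FlatMod.freeMod T.left r ⟶ FlatMod.freeMod T.left r => φ.app ⊤ (ASBun21.std T.left c ⊤))
    (IsIso.hom_inv_id (FreeRetract9.lift (jsec U a J q)))

theorem spanAt_comp_iso (e : Q ≅ Q') (y : T.left) (h : SpanAt (jsec U a J q) y) :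
    SpanAt (jsec U a J (q ≫ e.hom)) y := by
  refine eq_top_iff.2 ?_
  rw [← LinearMap.range_eq_top.2 (stalkLin_surjective e.hom y), LinearMap.range_eq_map, ← h, Submodule.map_span,
    Submodule.span_le]
  rintro _ ⟨_, ⟨c, rfl⟩, rfl⟩
  exact Submodule.subset_span ⟨c, (stalkLin_germ e.hom (U := ⊤) trivial _).symm⟩

theorem Good.comp_iso (h : Good U a J q) (e : Q ≅ Q') : Good U a J (q ≫ e.hom) :=
  ⟨GrassCat26.isFinLocFreeOfRank_of_iso e h.1, fun y => spanAt_comp_iso e y (h.2 y)⟩

theorem IsCoeff.comp_iso {l : MS E U → Fin r → Γ(T.left, ⊤)} (h : IsCoeff U a J q l) (e : Q ≅ Q') :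
    IsCoeff U a J (q ≫ e.hom) l := fun m => by
  show e.hom.app ⊤ (q.app ⊤ (secT a m)) = _
  rw [h m, map_sum]
  exact Finset.sum_congr rfl fun c _ => Scheme.Modules.Hom.app_smul _ _ _

variable {T' : Over X} (g : T' ⟶ T)

theorem bc_jsec (c : Fin r) :
    jsec U (g ≫ a) J (bc g q) c =
      (show Γ((Scheme.Modules.pullback g.left).obj Q, g.left ⁻¹ᵁ ⊤) from OX.pullSec g.left Q ⊤ (jsec U a J q c)) := by
  show (bc g q).app ⊤ (secT (g ≫ a) (J c)) = _
  rw [← secT_comp a g]
  exact bc_app g q _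

theorem Good.bc (h : Good U a J q) : Good U (g ≫ a) J (bc g q) :=
  ⟨OX.isFinLocFreeOfRank_pullback g.left h.1, fun y => by
    have := spanAt_pullSec g.left _ (h.2 (g.left y))
    rw [show jsec U (g ≫ a) J (GrassSch26.bc g q) = _ from funext (bc_jsec g)]
    exact this⟩

theorem IsCoeff.bc {l : MS E U → Fin r → Γ(T.left, ⊤)} (h : IsCoeff U a J q l) :
    IsCoeff U (g ≫ a) J (bc g q) fun m c => g.left.appTop (l m c) := fun m => by
  rw [← secT_comp a g]
  refine (bc_app g q _).trans ?_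
  have hs := congrArg (fun v => (show Γ((Scheme.Modules.pullback g.left).obj Q, g.left ⁻¹ᵁ ⊤) from
    OX.pullSec g.left Q ⊤ v)) (h m)
  refine hs.trans ?_
  refine Eq.trans (map_sum (((Scheme.Modules.pullbackPushforwardAdjunction g.left).unit.app Q).app ⊤).hom _ _) ?_
  refine Finset.sum_congr rfl fun c _ => ?_
  rw [bc_jsec]
  exact pullSec_smul g.left Q ⊤ _ _

end Quot

section Ring

instance : IsAffine (S0 U).left := inferInstanceAs (IsAffine (Spec Γ(X, U.1)))

variable (J : Fin r → MS E U)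

/-- The polynomial ring of matrix coefficients. -/
abbrev PolyR : Type u := MvPolynomial (MS E U × Fin r) Γ((S0 U).left, ⊤)

open Classical in
/-- The relations of the chart. -/
def rels : Set (PolyR (E := E) (r := r) U) :=
  {f | (∃ m m' c, f = MvPolynomial.X (m + m', c) - MvPolynomial.X (m, c) - MvPolynomial.X (m', c)) ∨
    (∃ x m c, f = MvPolynomial.X (x • m, c) - MvPolynomial.C x * MvPolynomial.X (m, c)) ∨
    ∃ d c, f = MvPolynomial.X (J d, c) - if c = d then 1 else 0}

/-- The coordinate ring of a chart. -/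
abbrev B : Type u := PolyR (E := E) (r := r) U ⧸ Ideal.span (rels U J)

/-- The structure map of the coordinate ring. -/
abbrev algB : Γ((S0 U).left, ⊤) →+* B U J := (Ideal.Quotient.mk _).comp MvPolynomial.C

/-- The chart. -/
def N : Over X :=
  Over.mk (Spec.map (CommRingCat.ofHom (algB U J)) ≫ (S0 U).left.isoSpec.inv ≫ U.2.fromSpec)

/-- The map of the chart to the affine open. -/
def aN : N U J ⟶ S0 U :=
  Over.homMk (Spec.map (CommRingCat.ofHom (algB U J)) ≫ (S0 U).left.isoSpec.inv) (Category.assoc _ _ _)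

/-- Functions on the chart. -/
abbrev ιB : B U J →+* Γ((N U J).left, ⊤) := (Scheme.ΓSpecIso (CommRingCat.of (B U J))).inv.hom

/-- The universal coordinates. -/
def lU (m : MS E U) (c : Fin r) : Γ((N U J).left, ⊤) :=
  ιB U J (Ideal.Quotient.mk _ (MvPolynomial.X (m, c)))

theorem aN_appTop (x : Γ((S0 U).left, ⊤)) : (aN U J).left.appTop x = ιB U J (algB U J x) := by
  have h : (aN U J).left ≫ (S0 U).left.toSpecΓ = Spec.map (CommRingCat.ofHom (algB U J)) := by
    show (Spec.map _ ≫ (S0 U).left.isoSpec.inv) ≫ (S0 U).left.isoSpec.hom = _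
    simp
  have h2 := congrArg Scheme.Hom.appTop h
  rw [Scheme.Hom.comp_appTop, Scheme.toSpecΓ_appTop] at h2
  have h3 := Scheme.ΓSpecIso_inv_naturality (CommRingCat.ofHom (algB U J))
  rw [← h2] at h3
  have h3 := h3.trans (Iso.inv_hom_id_assoc _ _)
  exact (ConcreteCategory.congr_hom h3 x).symm

open Classical in
theorem exists_qN : ∃ q : EP E (N U J) ⟶ FlatMod.freeMod (N U J).left r, Epi q ∧ Good U (aN U J) J q ∧
    IsCoeff U (aN U J) J q (lU U J) := by
  have hmk : ∀ f ∈ rels U J, Ideal.Quotient.mk (Ideal.span (rels U J)) f = 0 := fun f hf =>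
    Ideal.Quotient.eq_zero_iff_mem.2 (Ideal.subset_span hf)
  have hadd : ∀ m m' c, lU U J (m + m') c = lU U J m c + lU U J m' c := fun m m' c => by
    have := hmk _ (Or.inl ⟨m, m', c, rfl⟩)
    rw [map_sub, map_sub, sub_sub, sub_eq_zero] at this
    rw [lU, this, map_add]
    rfl
  let g : MS E U →+ Γ(FlatMod.freeMod (N U J).left r, (⊤ : (N U J).left.Opens)) :=
    AddMonoidHom.mk' (fun m => ∑ c, lU U J m c • ASBun21.std (N U J).left c ⊤) fun m m' => by
      rw [← Finset.sum_add_distrib]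
      exact Finset.sum_congr rfl fun c _ => by rw [hadd, add_smul]
  obtain ⟨q, hq⟩ := exists_hom_secT U (aN U J) _ g fun x m => by
    show ∑ c, lU U J (x • m) c • ASBun21.std (N U J).left c ⊤ =
      (aN U J).left.appTop x • ∑ c, lU U J m c • ASBun21.std (N U J).left c ⊤
    rw [Finset.smul_sum]
    refine Finset.sum_congr rfl fun c _ => ?_
    have := hmk _ (Or.inr (Or.inl ⟨x, m, c, rfl⟩))
    rw [map_sub, sub_eq_zero, map_mul] at this
    rw [smul_smul, aN_appTop, lU, this, map_mul]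
    rfl
  have hJ : ∀ d, jsec U (aN U J) J q d = ASBun21.std (N U J).left d ⊤ := fun d => by
    refine (hq _).trans ?_
    show ∑ c, lU U J (J d) c • ASBun21.std (N U J).left c ⊤ = _
    have hl : ∀ c, lU U J (J d) c = if c = d then 1 else 0 := fun c => by
      have := hmk _ (Or.inr (Or.inr ⟨d, c, rfl⟩))
      rw [map_sub, sub_eq_zero] at this
      rw [lU, this]
      split_ifs <;> simp
    rw [Finset.sum_eq_single d (fun c _ hc => by rw [hl, if_neg hc, zero_smul]) (by simp), hl, if_pos rfl, one_smul]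
  have hspan : ∀ y, SpanAt (jsec U (aN U J) J q) y := fun y => by
    have h := (FittSheaf.range_stalk_free (𝟙 (FlatMod.freeMod (N U J).left r)) y).symm.trans
      (LinearMap.range_eq_top.2 (stalkLin_surjective _ y))
    have e : FittSheaf.basisImage (𝟙 (FlatMod.freeMod (N U J).left r)) = jsec U (aN U J) J q := funext fun i => by
      rw [hJ, FittSheaf.basisImage, Category.comp_id]
      rfl
    rwa [e] at h
  refine ⟨q, ?_, ⟨fun _ => ⟨⊤, trivial, ⟨DCoh.restrictFreeModIso _ r⟩⟩, hspan⟩, fun m => ?_⟩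
  · refine (OX.epi_iff q).2 fun y => (ModuleCat.epi_iff_surjective _).2 (LinearMap.range_eq_top.1 (eq_top_iff.2 ?_))
    refine le_trans (hspan y).ge (Submodule.span_le.2 ?_)
    rintro _ ⟨c, rfl⟩
    exact ⟨(EP E (N U J)).presheaf.germ ⊤ y trivial (secT (aN U J) (J c)), stalkLin_germ q (U := ⊤) trivial _⟩
  · refine (hq m).trans ?_
    show ∑ c, lU U J m c • ASBun21.std (N U J).left c ⊤ = _
    refine Finset.sum_congr rfl fun c _ => ?_
    rw [hJ]

/-- The universal quotient of a chart. -/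
def qN : EP E (N U J) ⟶ FlatMod.freeMod (N U J).left r := (exists_qN U J).choose

theorem epi_qN : Epi (qN U J) := (exists_qN U J).choose_spec.1

theorem good_qN : Good U (aN U J) J (qN U J) := (exists_qN U J).choose_spec.2.1

theorem isCoeff_qN : IsCoeff U (aN U J) J (qN U J) (lU U J) := (exists_qN U J).choose_spec.2.2

/-- The universal point of a chart. -/
def nN : Obj E r (N U J) := mkQ (qN U J) (epi_qN U J) (good_qN U J).1

theorem hom_ext_N {T : Over X} {b b' : T ⟶ N U J} (h : ∀ m c, b.left.appTop (lU U J m c) = b'.left.appTop (lU U J m c)) :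
    b = b' := by
  refine Over.OverMorphism.ext ?_
  haveI : IsAffine (N U J).left := inferInstanceAs (IsAffine (Spec (CommRingCat.of (B U J))))
  refine ext_of_isAffine ?_
  have key : (b.left.appTop.hom).comp (ιB U J) = (b'.left.appTop.hom).comp (ιB U J) := by
    refine Ideal.Quotient.ringHom_ext (MvPolynomial.ringHom_ext (fun x => ?_) fun p => h p.1 p.2)
    show b.left.appTop (ιB U J (algB U J x)) = b'.left.appTop (ιB U J (algB U J x))
    rw [← aN_appTop]
    exact congrArg (fun a : T ⟶ S0 U => a.left.appTop x) (Subsingleton.elim (b ≫ aN U J) (b' ≫ aN U J))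
  refine CommRingCat.hom_ext (RingHom.ext fun x => ?_)
  have hx : ιB U J ((Scheme.ΓSpecIso (CommRingCat.of (B U J))).hom x) = x :=
    ConcreteCategory.congr_hom (Scheme.ΓSpecIso (CommRingCat.of (B U J))).hom_inv_id x
  rw [← hx]
  exact RingHom.congr_fun key _

theorem exists_hom_N {T : Over X} (a : T ⟶ S0 U) (χ : B U J →+* Γ(T.left, ⊤))
    (hχ : ∀ x, χ (algB U J x) = a.left.appTop x) :
    ∃ b : T ⟶ N U J, b ≫ aN U J = a ∧ ∀ m c, b.left.appTop (lU U J m c) = χ (Ideal.Quotient.mk _ (MvPolynomial.X (m, c))) := by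
  let β : T.left ⟶ (N U J).left := T.left.toSpecΓ ≫ Spec.map (CommRingCat.ofHom χ)
  have hβ : β ≫ (aN U J).left = a.left := by
    show (T.left.toSpecΓ ≫ Spec.map _) ≫ Spec.map _ ≫ (S0 U).left.isoSpec.inv = _
    rw [Category.assoc, ← Spec.map_comp_assoc,
      show CommRingCat.ofHom (algB U J) ≫ CommRingCat.ofHom χ = a.left.appTop from CommRingCat.hom_ext (RingHom.ext hχ),
      ← Category.assoc, Iso.comp_inv_eq]
    exact (Scheme.toSpecΓ_naturality a.left).symm
  refine ⟨Over.homMk β ?_, Over.OverMorphism.ext hβ, fun m c => ?_⟩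
  · rw [show (N U J).hom = (aN U J).left ≫ (S0 U).hom from (Over.w (aN U J)).symm, reassoc_of% hβ]
    exact Over.w a
  · show (T.left.toSpecΓ ≫ Spec.map _).appTop _ = _
    rw [Scheme.Hom.comp_appTop, Scheme.toSpecΓ_appTop]
    have := ConcreteCategory.congr_hom (Scheme.ΓSpecIso_inv_naturality (CommRingCat.ofHom χ))
      (Ideal.Quotient.mk _ (MvPolynomial.X (m, c)))
    refine (congrArg (Scheme.ΓSpecIso Γ(T.left, ⊤)).hom this.symm).trans ?_
    exact ConcreteCategory.congr_hom (Scheme.ΓSpecIso Γ(T.left, ⊤)).inv_hom_id _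

theorem good_bc_qN {T : Over X} (b : T ⟶ N U J) (a : T ⟶ S0 U) :
    Good U a J (bc b (qN U J)) ∧ IsCoeff U a J (bc b (qN U J)) fun m c => b.left.appTop (lU U J m c) := by
  obtain rfl : a = b ≫ aN U J := Subsingleton.elim _ _
  exact ⟨(good_qN U J).bc b, (isCoeff_qN U J).bc b⟩

theorem omap_nN_injective (T : Over X) : Function.Injective fun b : T ⟶ N U J => omap b (nN U J) := by
  intro b b' h
  haveI := epi_qN U J
  simp only [nN, omap_mkQ] at h
  obtain ⟨e, he⟩ := mkQ_eq_iff.1 h
  obtain ⟨h1, h2⟩ := good_bc_qN U J b (b ≫ aN U J)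
  obtain ⟨h1', h2'⟩ := good_bc_qN U J b' (b ≫ aN U J)
  have h3 := h2.comp_iso e
  rw [he] at h3
  exact hom_ext_N U J fun m c => congrFun (congrFun (h1'.coeff_unique h3 h2') m) c

theorem exists_classify {T : Over X} (a : T ⟶ S0 U) {Q : T.left.Modules} (q : EP E T ⟶ Q) (hq : Epi q)
    (hG : Good U a J q) : ∃ b : T ⟶ N U J, omap b (nN U J) = mkQ q hq hG.1 := by
  classical
  obtain ⟨l, hl⟩ := hG.exists_coeff
  let χ₀ : PolyR (E := E) (r := r) U →+* Γ(T.left, ⊤) :=
    MvPolynomial.eval₂Hom a.left.appTop.hom fun p => l p.1 p.2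
  have hX : ∀ p, χ₀ (MvPolynomial.X p) = l p.1 p.2 := fun p =>
    MvPolynomial.eval₂_X a.left.appTop.hom (fun p : MS E U × Fin r => l p.1 p.2) p
  have hC : ∀ x, χ₀ (MvPolynomial.C x) = a.left.appTop x := fun x =>
    MvPolynomial.eval₂_C a.left.appTop.hom (fun p : MS E U × Fin r => l p.1 p.2) x
  have hrel : ∀ f ∈ Ideal.span (rels U J), χ₀ f = 0 := fun f hf => by
    refine (show Ideal.span (rels U J) ≤ RingHom.ker χ₀ from Ideal.span_le.2 ?_) hf
    rintro _ (⟨m, m', c, rfl⟩ | ⟨x, m, c, rfl⟩ | ⟨d, c, rfl⟩) <;> rw [SetLike.mem_coe, RingHom.mem_ker]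
    · have e : (fun c => l (m + m') c) = fun c => l m c + l m' c := hG.eq_of_sum (by
        simp only [add_smul, Finset.sum_add_distrib]
        rw [← hl, ← hl, ← hl, secT_add, map_add])
      rw [map_sub, map_sub, hX, hX, hX]
      exact sub_eq_zero.2 (sub_eq_iff_eq_add'.2 (congrFun e c))
    · have e : (fun c => l (x • m) c) = fun c => a.left.appTop x * l m c := hG.eq_of_sum (by
        simp only [mul_smul, ← Finset.smul_sum]
        rw [← hl, ← hl, secT_smul, Scheme.Modules.Hom.app_smul])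
      rw [map_sub, map_mul, hX, hX, hC]
      exact sub_eq_zero.2 (congrFun e c)
    · have e : (fun c => l (J d) c) = fun c => if c = d then 1 else 0 := hG.eq_of_sum (by
        rw [← hl]
        simp [jsec])
      rw [map_sub, hX, sub_eq_zero]
      refine (congrFun e c).trans ?_
      split_ifs <;> simp
  obtain ⟨b, -, hbl⟩ := exists_hom_N U J a (Ideal.Quotient.lift _ χ₀ hrel) fun x => (Ideal.Quotient.lift_mk _ _ _).trans (hC x)
  refine ⟨b, ?_⟩
  obtain ⟨h1, h2⟩ := good_bc_qN U J b a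
  have hlb : (fun m c => b.left.appTop (lU U J m c)) = l := by
    funext m c
    rw [hbl, Ideal.Quotient.lift_mk, hX]
  rw [hlb] at h2
  rw [nN, omap_mkQ]
  exact mkQ_eq_iff.2 (h1.exists_iso hG h2 hl)

end Ring

end GrothLib.GrassSch26
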