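import Groth.Agent.Lib.GrassSch26.FlagTower
import Groth.Agent.Lib.PBDeg17.OfUniv
import Mathlib.Algebra.BigOperators.Fin

/-!
# The forgetful morphisms between flag schemes
-/

set_option autoImplicit false
set_option linter.style.haveILetI false
set_option backward.isDefEq.respectTransparency false
set_option synthInstance.maxHeartbeats 200000
universe u

noncomputable section

open CategoryTheory CategoryTheory.Limits AlgebraicGeometry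

namespace GrothLib.GrassSch26

open GrothLib.GrassCat26

variable {X : Scheme.{u}} {E : X.Modules}

/-- A morphism classifying a family of quotients. -/
def IsCl {F F₀ : Scheme.{u}} {π : F ⟶ X} {π₀ : F₀ ⟶ X} {a b : ℕ} (j : Fin b → Fin a) (Q : Fin a → F.Modules)
    (q : ∀ i, (Scheme.Modules.pullback π).obj E ⟶ Q i) {Q₀ : Fin b → F₀.Modules}
    (q₀ : ∀ i, (Scheme.Modules.pullback π₀).obj E ⟶ Q₀ i) (φ : F ⟶ F₀) : Prop :=
  ∃ (hφ : φ ≫ π₀ = π) (e : ∀ i, (Scheme.Modules.pullback φ).obj (Q₀ i) ≅ Q (j i)),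
    ∀ i, Grass.quotBC hφ (q₀ i) ≫ (e i).hom = q (j i)

section

variable {F F₁ F₀ : Scheme.{u}} {π : F ⟶ X} {π₁ : F₁ ⟶ X} {π₀ : F₀ ⟶ X} {a b c : ℕ}
  {Q : Fin a → F.Modules} {q : ∀ i, (Scheme.Modules.pullback π).obj E ⟶ Q i}
  {Q₁ : Fin b → F₁.Modules} {q₁ : ∀ i, (Scheme.Modules.pullback π₁).obj E ⟶ Q₁ i}
  {Q₀ : Fin c → F₀.Modules} {q₀ : ∀ i, (Scheme.Modules.pullback π₀).obj E ⟶ Q₀ i}

theorem IsCl.comp {j : Fin b → Fin a} {j' : Fin c → Fin b} {φ : F ⟶ F₁} {ψ : F₁ ⟶ F₀}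
    (h : IsCl j Q q q₁ φ) (h' : IsCl j' Q₁ q₁ q₀ ψ) : IsCl (j ∘ j') Q q q₀ (φ ≫ ψ) := by
  obtain ⟨hφ, e, he⟩ := h
  obtain ⟨hψ, e', he'⟩ := h'
  refine ⟨by rw [Category.assoc, hψ, hφ], fun i => ((Scheme.Modules.pullbackComp φ ψ).app (Q₀ i)).symm ≪≫
    (Scheme.Modules.pullback φ).mapIso (e' i) ≪≫ e (j' i), fun i => ?_⟩
  simp only [Iso.trans_hom, Iso.symm_hom, Iso.app_inv, Functor.mapIso_hom]
  rw [← Category.assoc, quotBC_comp (q₀ i) ψ φ hψ hφ (by rw [Category.assoc, hψ, hφ]), ← Category.assoc,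
    ← quotBC_whisker, he', he]
  rfl

theorem isCl_id : IsCl id Q q q (𝟙 F) :=
  ⟨Category.id_comp π, fun i => (Scheme.Modules.pullbackId F).app (Q i), fun i =>
    PBDeg.quotAlong_id E (q i) (Category.id_comp π)⟩

theorem IsCl.unique {n : Fin c → ℕ} (hF₀ : Grass.IsFlag π₀ E n Q₀ q₀) {j : Fin c → Fin a}
    (hr : ∀ i, FlatMod.IsFinLocFreeOfRank (n i) (Q (j i))) (he : ∀ i, Epi (q (j i)))
    (hn : ∀ i i', i ≤ i' → ∃ t : Q (j i) ⟶ Q (j i'), q (j i) ≫ t = q (j i'))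
    {φ φ' : F ⟶ F₀} (h : IsCl j Q q q₀ φ) (h' : IsCl j Q q q₀ φ') : φ = φ' := by
  obtain ⟨hφ, e, h1⟩ := h
  obtain ⟨hφ', e', h1'⟩ := h'
  exact (hF₀.univ F π (fun i => Q (j i)) hr (fun i => q (j i)) he hn).unique ⟨hφ, e, h1⟩ ⟨hφ', e', h1'⟩

theorem exists_isCl {n : Fin a → ℕ} (hF : Grass.IsFlag π E n Q q) {n₀ : Fin c → ℕ} (hF₀ : Grass.IsFlag π₀ E n₀ Q₀ q₀)
    (j : Fin c → Fin a) (hj : Monotone j) (hn : ∀ i, n (j i) = n₀ i) : ∃ φ : F ⟶ F₀, IsCl j Q q q₀ φ := by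
  obtain ⟨φ, ⟨hφ, e, he⟩, -⟩ := hF₀.univ F π (fun i => Q (j i)) (fun i => hn i ▸ hF.rank (j i)) (fun i => q (j i))
    (fun i => hF.epi (j i)) (fun i i' h => hF.nested (j i) (j i') (hj h))
  exact ⟨φ, hφ, e, he⟩

end

/-- The three properties. -/
def Nice (d : ℕ) {Y Z : Scheme.{u}} (φ : Y ⟶ Z) : Prop :=
  SmoothOfRelativeDimension d φ ∧ IsProper φ ∧ Surjective φ

theorem Nice.comp {d d' : ℕ} {Y Z W : Scheme.{u}} {φ : Y ⟶ Z} {ψ : Z ⟶ W} (h : Nice d φ) (h' : Nice d' ψ) :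
    Nice (d + d') (φ ≫ ψ) := by
  obtain ⟨h1, h2, h3⟩ := h
  obtain ⟨h1', h2', h3'⟩ := h'
  exact ⟨inferInstance, MorphismProperty.comp_mem _ _ _ h2 h2', inferInstance⟩

theorem nice_of_isIso {Y Z : Scheme.{u}} (φ : Y ⟶ Z) [IsIso φ] : Nice 0 φ := by
  haveI : IsOpenImmersion φ := IsOpenImmersion.of_isIso φ
  exact ⟨inferInstance, inferInstance, inferInstance⟩

theorem nice_isGrass {G : Scheme.{u}} {π : G ⟶ X} {r N : ℕ} (hE : FlatMod.IsFinLocFreeOfRank N E) (hr : r ≤ N)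
    {Q : G.Modules} {q : (Scheme.Modules.pullback π).obj E ⟶ Q} (hG : Grass.IsGrass π E r Q q) :
    Nice (r * (N - r)) π :=
  ⟨smoothOfRelativeDimension_isGrass hE hG, isProper_isGrass hE hG, surjective_isGrass hE hr hG⟩

section Chain

variable {N m : ℕ} {n : Fin m → ℕ}

theorem nice_step (hE : FlatMod.IsFinLocFreeOfRank N E) (hn : StrictAnti n) (hN : ∀ i, n i < N) {k : ℕ}
    (hk : k < m) {F₁ F₀ : Scheme.{u}} {π₁ : F₁ ⟶ X} {π₀ : F₀ ⟶ X}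
    {Q₁ : Fin (k + 1) → F₁.Modules} {q₁ : ∀ i, (Scheme.Modules.pullback π₁).obj E ⟶ Q₁ i}
    (hF₁ : Grass.IsFlag π₁ E (fun i => n (Fin.castLE hk i)) Q₁ q₁)
    {Q₀ : Fin k → F₀.Modules} {q₀ : ∀ i, (Scheme.Modules.pullback π₀).obj E ⟶ Q₀ i}
    (hF₀ : Grass.IsFlag π₀ E (fun i => n (Fin.castLE hk.le i)) Q₀ q₀)
    {ψ : F₁ ⟶ F₀} (hψ : IsCl Fin.castSucc Q₁ q₁ q₀ ψ) :
    Nice (n ⟨k, hk⟩ * ((Fin.cons N n : Fin (m + 1) → ℕ) (Fin.castSucc ⟨k, hk⟩) - n ⟨k, hk⟩)) ψ := by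
  cases k with
  | zero =>
    haveI := isIso_of_isFlag_zero hF₀
    obtain ⟨hψπ, -⟩ := hψ
    have h := (nice_isGrass hE (hN _).le (isGrass_of_isFlag_one hF₁)).comp (nice_of_isIso (inv π₀))
    rw [show ψ = π₁ ≫ inv π₀ by rw [← hψπ, Category.assoc, IsIso.hom_inv_id, Category.comp_id]]
    rw [show (Fin.castLE hk (0 : Fin 1) : Fin m) = ⟨0, hk⟩ from rfl] at h
    simpa using h
  | succ k =>
    have hG := Groth.Agent.S19663.result X F₀ F₁ π₀ π₁ E k (fun i => n (Fin.castLE hk i)) Q₀ q₀ hF₀ Q₁ q₁ hF₁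
    obtain ⟨hψπ, e, he⟩ := hψ
    rw [hF₀.lift_unique π₁ (fun i => Q₁ (Fin.castSucc i)) (fun i => hF₁.rank (Fin.castSucc i))
      (fun i => q₁ (Fin.castSucc i)) (fun i => hF₁.epi (Fin.castSucc i))
      (fun i j hij => hF₁.nested (Fin.castSucc i) (Fin.castSucc j) (Fin.castSucc_le_castSucc_iff.mpr hij))
      ψ hψπ e he]
    have h := nice_isGrass (hF₀.rank (Fin.last k)) (le_of_lt (hn (show (⟨k, _⟩ : Fin m) < ⟨k + 1, hk⟩ from
      Nat.lt_succ_self k))) hG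
    exact h

theorem nice_of_isCl (hE : FlatMod.IsFinLocFreeOfRank N E) (hn : StrictAnti n) (hN : ∀ i, n i < N)
    {F : Scheme.{u}} {π : F ⟶ X} {Q : Fin m → F.Modules} {q : ∀ i, (Scheme.Modules.pullback π).obj E ⟶ Q i}
    (hF : Grass.IsFlag π E n Q q) :
    ∀ (d k : ℕ) (hk : k ≤ m), k + d = m → ∀ {F₀ : Scheme.{u}} {π₀ : F₀ ⟶ X} {Q₀ : Fin k → F₀.Modules}
      {q₀ : ∀ i, (Scheme.Modules.pullback π₀).obj E ⟶ Q₀ i},
      Grass.IsFlag π₀ E (fun i => n (Fin.castLE hk i)) Q₀ q₀ → ∀ {φ : F ⟶ F₀}, IsCl (Fin.castLE hk) Q q q₀ φ →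
      Nice (∑ i : Fin m, if k ≤ (i : ℕ) then n i * ((Fin.cons N n : Fin (m + 1) → ℕ) (Fin.castSucc i) - n i) else 0)
        φ := by
  intro d
  induction d with
  | zero =>
    intro k hk hd F₀ π₀ Q₀ q₀ hF₀ φ hφ
    obtain rfl : k = m := hd
    obtain ⟨χ, hχ⟩ := exists_isCl hF₀ hF (id : Fin k → Fin k) monotone_id fun i => rfl
    have h1 : φ ≫ χ = 𝟙 F := IsCl.unique hF (j := id) hF.rank hF.epi hF.nested (hφ.comp hχ) isCl_id
    have h2 : χ ≫ φ = 𝟙 F₀ := IsCl.unique hF₀ (j := id) hF₀.rank hF₀.epi hF₀.nested (hχ.comp hφ) isCl_id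
    haveI : IsIso φ := ⟨χ, h1, h2⟩
    rw [Finset.sum_eq_zero fun i _ => if_neg (not_le.2 i.2)]
    exact nice_of_isIso φ
  | succ d ih =>
    intro k hk hd F₀ π₀ Q₀ q₀ hF₀ φ hφ
    have hk' : k < m := by omega
    obtain ⟨F₁, π₁, Q₁, q₁, hF₁⟩ := exists_isFlag (FinCov.isFinLocFree_of_rank hE) (k + 1)
      (fun i => n (Fin.castLE hk' i))
    obtain ⟨χ, hχ⟩ := exists_isCl hF hF₁ (Fin.castLE hk') (Fin.strictMono_castLE hk').monotone fun i => rfl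
    obtain ⟨ψ, hψ⟩ := exists_isCl hF₁ hF₀ Fin.castSucc Fin.strictMono_castSucc.monotone fun i => rfl
    have hφ' : φ = χ ≫ ψ := IsCl.unique hF₀ (j := Fin.castLE hk) (fun i => hF.rank _) (fun i => hF.epi _)
      (fun i j hij => hF.nested _ _ ((Fin.castLE_le_castLE_iff hk).mpr hij)) hφ (hχ.comp hψ)
    rw [hφ']
    have h := (ih (k + 1) hk' (by omega) hF₁ hχ).comp (nice_step hE hn hN hk' hF₁ hF₀ hψ)
    refine Eq.mp ?_ h
    congr 1
    rw [← Fintype.sum_ite_eq ⟨k, hk'⟩ (fun i => n i * ((Fin.cons N n : Fin (m + 1) → ℕ) (Fin.castSucc i) - n i)),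
      ← Finset.sum_add_distrib]
    refine Finset.sum_congr rfl fun i _ => ?_
    simp only [Fin.ext_iff]
    split_ifs <;> omega

theorem irreducibleSpace_isFlag [IrreducibleSpace X] (hE : FlatMod.IsFinLocFreeOfRank N E) :
    ∀ (m : ℕ) (n : Fin m → ℕ), StrictAnti n → (∀ i, n i < N) → ∀ {F : Scheme.{u}} {π : F ⟶ X}
      {Q : Fin m → F.Modules} {q : ∀ i, (Scheme.Modules.pullback π).obj E ⟶ Q i},
      Grass.IsFlag π E n Q q → IrreducibleSpace F := by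
  intro m
  induction m with
  | zero =>
    intro n _ _ F π Q q hF
    haveI := isIso_of_isFlag_zero hF
    exact π.homeomorph.irreducibleSpace_iff.2 ‹_›
  | succ m ih =>
    intro n hn hN F π Q q hF
    cases m with
    | zero => exact irreducibleSpace_isGrass hE (hN _).le (isGrass_of_isFlag_one hF)
    | succ m =>
      obtain ⟨F₀, π₀, Q₀, q₀, hF₀⟩ := exists_isFlag (FinCov.isFinLocFree_of_rank hE) (m + 1)
        (fun i => n (Fin.castSucc i))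
      haveI := ih (fun i => n (Fin.castSucc i)) (fun a b h => hn (Fin.castSucc_lt_castSucc_iff.2 h))
        (fun i => hN _) hF₀
      exact irreducibleSpace_isGrass (hF₀.rank (Fin.last m))
        (le_of_lt (hn (Fin.castSucc_lt_last (Fin.last m))))
        (Groth.Agent.S19663.result X F₀ F π₀ π E m n Q₀ q₀ hF₀ Q q hF)

end Chain

end GrothLib.GrassSch26
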