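import Groth.Agent.S19663
import Groth.Agent.Lib.GrassSch26.Bundle

/-!
# Towers of flag schemes
-/

set_option autoImplicit false
set_option linter.style.haveILetI false
set_option backward.isDefEq.respectTransparency false
set_option synthInstance.maxHeartbeats 200000
universe u

noncomputable section

open CategoryTheory CategoryTheory.Limits AlgebraicGeometry

namespace GrothLib.GrassSch26

open GrothLib.GrassCat26

variable {X F : Scheme.{u}} {π : F ⟶ X} {E : X.Modules}

theorem isFlag_zero (X : Scheme.{u}) (E : X.Modules) (n : Fin 0 → ℕ) (Q : Fin 0 → X.Modules)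
    (q : ∀ i, (Scheme.Modules.pullback (𝟙 X)).obj E ⟶ Q i) : Grass.IsFlag (𝟙 X) E n Q q where
  rank i := i.elim0
  epi i := i.elim0
  nested i := i.elim0
  univ T g L _ s _ _ :=
    ⟨g, ⟨Category.comp_id g, fun i => i.elim0, fun i => i.elim0⟩, fun h ⟨hh, _⟩ => by
      rwa [Category.comp_id] at hh⟩

theorem isIso_of_isFlag_zero {n : Fin 0 → ℕ} {Q : Fin 0 → F.Modules}
    {q : ∀ i, (Scheme.Modules.pullback π).obj E ⟶ Q i} (hF : Grass.IsFlag π E n Q q) : IsIso π := by
  obtain ⟨s, ⟨hs, -⟩, -⟩ := hF.univ X (𝟙 X) (fun i => i.elim0) (fun i => i.elim0) (fun i => i.elim0)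
    (fun i => i.elim0) (fun i => i.elim0)
  refine ⟨s, (hF.univ F π (fun i => i.elim0) (fun i => i.elim0) (fun i => i.elim0) (fun i => i.elim0)
    (fun i => i.elim0)).unique ⟨by rw [Category.assoc, hs, Category.comp_id], fun i => i.elim0, fun i => i.elim0⟩
      ⟨Category.id_comp π, fun i => i.elim0, fun i => i.elim0⟩, hs⟩

theorem isFlag_of_isGrass {n : Fin 1 → ℕ} {Q : F.Modules} {q : (Scheme.Modules.pullback π).obj E ⟶ Q}
    (hG : Grass.IsGrass π E (n 0) Q q) : Grass.IsFlag π E n (fun _ => Q) (fun _ => q) := by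
  have h : n = ![n 0] := funext fun i => by rw [Fin.eq_zero i]; rfl
  rw [h]
  exact Grass.IsFlag.of_isGrass hG

theorem isGrass_of_isFlag_one {n : Fin 1 → ℕ} {Q : Fin 1 → F.Modules}
    {q : ∀ i, (Scheme.Modules.pullback π).obj E ⟶ Q i} (hF : Grass.IsFlag π E n Q q) :
    Grass.IsGrass π E (n 0) (Q 0) (q 0) where
  rank := hF.rank 0
  epi := hF.epi 0
  univ T g L hL s hs := by
    obtain ⟨h, ⟨hg, e, he⟩, huniq⟩ := hF.univ T g (fun _ => L) (fun i => by rw [Fin.eq_zero i]; exact hL)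
      (fun _ => s) (fun _ => hs) (fun _ _ _ => ⟨𝟙 _, Category.comp_id _⟩)
    refine ⟨h, ⟨hg, e 0, he 0⟩, fun h' ⟨hg', e', he'⟩ => huniq h' ⟨hg', fun i => ?_, fun i => ?_⟩⟩
    · exact (eqToIso (by rw [Fin.eq_zero i]) : (Scheme.Modules.pullback h').obj (Q i) ≅ _) ≪≫ e'
    · obtain rfl : i = 0 := Fin.eq_zero i
      simpa using he'

section Step

variable {F' : Scheme.{u}} {φ : F' ⟶ F} {m : ℕ} {n : Fin (m + 2) → ℕ} {Q : Fin (m + 1) → F.Modules}
  {q : ∀ i, (Scheme.Modules.pullback π).obj E ⟶ Q i} {L : F'.Modules}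
  {s : (Scheme.Modules.pullback φ).obj (Q (Fin.last m)) ⟶ L}

theorem quotBC_step {T : Scheme.{u}} {h0 : T ⟶ F} {k : T ⟶ F'} {g : T ⟶ X} (hk : k ≫ φ = h0)
    (hkπ : k ≫ φ ≫ π = g) (h0π : h0 ≫ π = g) {M : F.Modules} (a : (Scheme.Modules.pullback π).obj E ⟶ M) :
    Grass.quotBC hkπ (Grass.quotBC (rfl : φ ≫ π = φ ≫ π) a) ≫ (Scheme.Modules.pullbackComp k φ).hom.app M ≫
      (Scheme.Modules.pullbackCongr hk).hom.app M = Grass.quotBC h0π a := by
  rw [← quotBC_comp a φ k rfl hkπ (by rw [Category.assoc]; exact hkπ)]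
  rw [Category.assoc, ← NatTrans.comp_app_assoc, Iso.inv_hom_id, NatTrans.id_app, Category.id_comp, quotBC_congr]

/-- A Grassmannian of the last quotient of a flag scheme is the longer flag scheme. -/
theorem isFlag_of_isGrass_step (hF : Grass.IsFlag π E (fun i => n (Fin.castSucc i)) Q q)
    (hG : Grass.IsGrass φ (Q (Fin.last m)) (n (Fin.last (m + 1))) L s)
    {Q' : Fin (m + 2) → F'.Modules} {q' : ∀ i, (Scheme.Modules.pullback (φ ≫ π)).obj E ⟶ Q' i}
    (α : ∀ i, (Scheme.Modules.pullback φ).obj (Q i) ≅ Q' (Fin.castSucc i)) (β : L ≅ Q' (Fin.last (m + 1)))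
    (hα : ∀ i, q' (Fin.castSucc i) = Grass.quotBC rfl (q i) ≫ (α i).hom)
    (hβ : q' (Fin.last (m + 1)) = Grass.quotBC rfl (q (Fin.last m)) ≫ s ≫ β.hom) :
    Grass.IsFlag (φ ≫ π) E n Q' q' where
  rank i := by
    refine Fin.lastCases ?_ (fun i => ?_) i
    · exact isFinLocFreeOfRank_of_iso β hG.rank
    · exact isFinLocFreeOfRank_of_iso (α i) (OX.isFinLocFreeOfRank_pullback φ (hF.rank i))
  epi i := by
    refine Fin.lastCases ?_ (fun i => ?_) i
    · rw [hβ]
      haveI := hF.epi (Fin.last m)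
      haveI := hG.epi
      exact epi_comp' (epi_quotBC _ _) inferInstance
    · rw [hα]
      haveI := hF.epi i
      exact epi_comp' (epi_quotBC _ _) inferInstance
  nested i j := by
    refine Fin.lastCases ?_ (fun i => ?_) i <;> refine Fin.lastCases ?_ (fun j => ?_) j <;> intro hij
    · exact ⟨𝟙 _, Category.comp_id _⟩
    · exact absurd hij (not_le.2 (Fin.castSucc_lt_last j))
    · obtain ⟨u, hu⟩ := hF.nested i (Fin.last m) (Fin.le_last i)
      refine ⟨(α i).inv ≫ (Scheme.Modules.pullback φ).map u ≫ s ≫ β.hom, ?_⟩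
      rw [hα, hβ, ← hu, quotBC_whisker]
      simp
    · obtain ⟨u, hu⟩ := hF.nested i j (Fin.castSucc_le_castSucc_iff.1 hij)
      refine ⟨(α i).inv ≫ (Scheme.Modules.pullback φ).map u ≫ (α j).hom, ?_⟩
      rw [hα, hα, ← hu, quotBC_whisker]
      simp
  univ T g M hM t ht hn := by
    let M₀ : Fin (m + 1) → T.Modules := fun i => M (Fin.castSucc i)
    have hn₀ : ∀ i j : Fin (m + 1), i ≤ j → ∃ u : M₀ i ⟶ M₀ j, t (Fin.castSucc i) ≫ u = t (Fin.castSucc j) :=
      fun i j hij => hn _ _ (Fin.castSucc_le_castSucc_iff.2 hij)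
    obtain ⟨h0, ⟨h0π, e0, he0⟩, hu0⟩ := hF.univ T g M₀ (fun i => hM (Fin.castSucc i))
      (fun i => t (Fin.castSucc i)) (fun i => ht (Fin.castSucc i)) hn₀
    obtain ⟨v, hv⟩ := hn (Fin.castSucc (Fin.last m)) (Fin.last (m + 1)) (Fin.le_last _)
    haveI := ht (Fin.last (m + 1))
    haveI : Epi v := epi_of_epi_fac hv
    obtain ⟨h, ⟨hh, e, he⟩, hu⟩ := hG.univ T h0 (M (Fin.last (m + 1))) (hM _) ((e0 (Fin.last m)).hom ≫ v)
      (epi_comp' inferInstance inferInstance)
    have hhπ : h ≫ φ ≫ π = g := by rw [← Category.assoc, hh, h0π]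
    refine ⟨h, ⟨hhπ, Fin.lastCases ((Scheme.Modules.pullback h).mapIso β.symm ≪≫ e) (fun i =>
      (Scheme.Modules.pullback h).mapIso (α i).symm ≪≫ (Scheme.Modules.pullbackComp h φ).app (Q i) ≪≫
        (Scheme.Modules.pullbackCongr hh).app (Q i) ≪≫ e0 i), fun i => ?_⟩, fun k ⟨hkπ, ek, hek⟩ => ?_⟩
    · refine Fin.lastCases ?_ (fun i => ?_) i
      · simp only [Fin.lastCases_last]
        have hs : (Scheme.Modules.pullback h).map s ≫ e.hom = (Scheme.Modules.pullbackComp h φ).hom.app _ ≫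
            (Scheme.Modules.pullbackCongr hh).hom.app _ ≫ (e0 (Fin.last m)).hom ≫ v := by
          rw [← he]; simp [Grass.quotBC]
        have hstep := quotBC_step hh hhπ h0π (q (Fin.last m))
        rw [hβ, quotBC_whisker, Iso.trans_hom, Functor.mapIso_hom, Iso.symm_hom, Category.assoc,
          ← Functor.map_comp_assoc, Category.assoc s, β.hom_inv_id, Category.comp_id, hs, ← hv, ← he0, ← hstep]
        simp only [Category.assoc]
      · simp only [Fin.lastCases_castSucc]
        rw [hα, quotBC_whisker, ← he0, ← quotBC_step hh hhπ h0π]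
        simp
    · have hk : k ≫ φ = h0 := by
        refine hu0 _ ⟨by rw [Category.assoc]; exact hkπ, fun i => ((Scheme.Modules.pullbackComp k φ).app (Q i)).symm ≪≫
          (Scheme.Modules.pullback k).mapIso (α i) ≪≫ ek (Fin.castSucc i), fun i => ?_⟩
        simp only [Iso.trans_hom, Iso.symm_hom, Iso.app_inv, Functor.mapIso_hom]
        rw [← Category.assoc, quotBC_comp (q i) φ k rfl hkπ (by rw [Category.assoc]; exact hkπ), ← Category.assoc,
          ← quotBC_whisker, ← hα, hek]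
      refine hu k ⟨hk, (Scheme.Modules.pullback k).mapIso β ≪≫ ek (Fin.last (m + 1)), ?_⟩
      haveI := hF.epi (Fin.last m)
      haveI := epi_quotBC h0π (q (Fin.last m))
      have hstep := quotBC_step hk hkπ h0π (q (Fin.last m))
      rw [← cancel_epi (Grass.quotBC h0π (q (Fin.last m)))]
      conv_rhs => rw [← Category.assoc, he0 (Fin.last m), hv, ← hek (Fin.last (m + 1)), hβ, quotBC_whisker]
      rw [← hstep]
      simp [Grass.quotBC]

end Step

theorem exists_isFlag (hX : FlatMod.IsFinLocFree E) : ∀ (k : ℕ) (n : Fin k → ℕ),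
    ∃ (F : Scheme.{u}) (π : F ⟶ X) (Q : Fin k → F.Modules) (q : ∀ i, (Scheme.Modules.pullback π).obj E ⟶ Q i),
      Grass.IsFlag π E n Q q := by
  haveI : E.IsQuasicoherent := (Euler.isCoh_of_isFinLocFree hX).1
  intro k
  induction k with
  | zero => exact fun n => ⟨X, 𝟙 X, fun i => i.elim0, fun i => i.elim0, isFlag_zero X E n _ _⟩
  | succ k ih =>
    intro n
    cases k with
    | zero =>
      obtain ⟨G, π, Q, q, hG⟩ := exists_isGrass E (n 0)
      exact ⟨G, π, _, _, isFlag_of_isGrass hG⟩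
    | succ m =>
      obtain ⟨F, π, Q, q, hF⟩ := ih (fun i => n (Fin.castSucc i))
      haveI := isQuasicoherent_of_rank (hF.rank (Fin.last m))
      obtain ⟨F', φ, L, s, hG⟩ := exists_isGrass (Q (Fin.last m)) (n (Fin.last (m + 1)))
      let Q' : Fin (m + 2) → F'.Modules :=
        Fin.lastCases (motive := fun _ => F'.Modules) L (fun i => (Scheme.Modules.pullback φ).obj (Q i))
      have hQc : ∀ i, Q' (Fin.castSucc i) = (Scheme.Modules.pullback φ).obj (Q i) := fun i =>
        Fin.lastCases_castSucc i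
      have hQl : Q' (Fin.last (m + 1)) = L := Fin.lastCases_last
      let q' : ∀ i, (Scheme.Modules.pullback (φ ≫ π)).obj E ⟶ Q' i :=
        Fin.lastCases (Grass.quotBC rfl (q (Fin.last m)) ≫ s ≫ eqToHom hQl.symm)
          (fun i => Grass.quotBC rfl (q i) ≫ eqToHom (hQc i).symm)
      exact ⟨F', φ ≫ π, Q', q', isFlag_of_isGrass_step hF hG (fun i => eqToIso (hQc i).symm) (eqToIso hQl.symm)
        (fun i => Fin.lastCases_castSucc i) Fin.lastCases_last⟩

end GrothLib.GrassSch26
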