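import Groth.Agent.Lib.GrassSch26.Pluecker
import Groth.Agent.Lib.Grass26.Smooth
import Mathlib.Algebra.MvPolynomial.Nilpotent

/-!
# Charts of the Grassmannian of a locally free module
-/

set_option autoImplicit false
set_option linter.style.haveILetI false
set_option backward.isDefEq.respectTransparency false
set_option synthInstance.maxHeartbeats 200000
universe u

noncomputable section

open CategoryTheory CategoryTheory.Limits AlgebraicGeometry Opposite TopologicalSpace
open GrothLib.QCoh (stalkLin stalkLin_comp stalkLin_germ)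
open GrothLib.QuotTan26 GrothLib.GrassCat26 GrothLib.RepLocal

namespace GrothLib.GrassSch26

variable {X : Scheme.{u}} {E : X.Modules} [E.IsQuasicoherent] {r N₀ : ℕ}

theorem bijective_appLE_fromSpec (U : X.affineOpens) :
    Function.Bijective (U.2.fromSpec.appLE U.1 ⊤ (top_le_preimage U)) := by
  have h : (⊤ : (S0 U).left.Opens) = U.2.fromSpec ⁻¹ᵁ U.1 := (U.2.fromSpec_preimage_self).symm
  haveI : IsIso (U.2.fromSpec.app U.1) := by
    rw [U.2.fromSpec_app_self]; infer_instance
  haveI : IsIso (homOfLE (top_le_preimage U)).op := by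
    rw [show (homOfLE (top_le_preimage U)).op = (eqToHom h).op from Subsingleton.elim _ _]
    infer_instance
  rw [Scheme.Hom.appLE]
  exact ConcreteCategory.bijective_of_isIso _

/-- Sections of a locally free module near any point form a free module. -/
theorem exists_basis_MS (hE : FlatMod.IsFinLocFreeOfRank N₀ E) (x : X) {O : X.Opens} (hx : x ∈ O) :
    ∃ U : X.affineOpens, x ∈ U.1 ∧ U.1 ≤ O ∧
      Nonempty (Module.Basis (Fin N₀) Γ((S0 U).left, ⊤) (MS E U)) := by
  obtain ⟨W, e, hxW, he⟩ := FinCov.exists_frame_nhd_of_rank hE x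
  obtain ⟨U₀, hU, hxU, hle⟩ := exists_isAffineOpen_mem_and_subset (x := x) (U := W ⊓ O) ⟨hxW, hx⟩
  let U : X.affineOpens := ⟨U₀, hU⟩
  refine ⟨U, hxU, fun p hp => (hle hp).2, ?_⟩
  let bU := he.basis U.1 (fun p hp => (hle hp).1)
  let ρ := U.2.fromSpec.appLE U.1 ⊤ (top_le_preimage U)
  let s : Fin N₀ → MS E U := fun i => nu U E (bU i)
  let nuA : Γ(E, U.1) →+ MS E U :=
    AddMonoidHom.mk' (nu U E) (BCCoh.pullRes_add U.2.fromSpec E U.1 ⊤ (top_le_preimage U))
  have hsum : ∀ c : Fin N₀ → Γ(X, U.1), ∑ i, ρ (c i) • s i = nuA (∑ i, c i • bU i) := fun c => by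
    rw [map_sum]
    exact Finset.sum_congr rfl fun i _ => (BCCoh.pullRes_smul _ _ _ _ _ (c i) (bU i)).symm
  have hρ := bijective_appLE_fromSpec U
  let L : (Fin N₀ → Γ((S0 U).left, ⊤)) →ₗ[Γ((S0 U).left, ⊤)] MS E U :=
    Fintype.linearCombination Γ((S0 U).left, ⊤) s
  have hL : ∀ c, L c = ∑ i, c i • s i := fun c => Fintype.linearCombination_apply _ _ _
  have hinj : Function.Injective (nu U E) :=
    (HilbStrat10.bijective_pullRes U.2.fromSpec E (V := U.1) (V' := ⊤)
      ((Scheme.Hom.image_top_eq_opensRange _).trans (IsAffineOpen.opensRange_fromSpec U.2)) _).1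
  have hbij : Function.Bijective L := by
    constructor
    · intro c c' h
      choose d hd using fun i => hρ.2 (c i)
      choose d' hd' using fun i => hρ.2 (c' i)
      obtain rfl : (fun i => ρ (d i)) = c := funext hd
      obtain rfl : (fun i => ρ (d' i)) = c' := funext hd'
      rw [hL, hL, hsum, hsum] at h
      have h2 := hinj h
      funext i
      rw [show d i = d' i from by
        have := congrArg (fun v => bU.repr v i) h2
        simpa [Finsupp.single_apply] using this]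
    · intro m
      obtain ⟨v, rfl⟩ := nu_surjective U E m
      refine ⟨fun i => ρ (bU.repr v i), ?_⟩
      rw [hL, hsum, bU.sum_repr]
      rfl
  exact ⟨Module.Basis.ofEquivFun (LinearEquiv.ofBijective L hbij).symm⟩

variable (U : X.affineOpens) (b : Module.Basis (Fin N₀) Γ((S0 U).left, ⊤) (MS E U))

section Ring

variable (σ : Fin r → Fin N₀)

/-- The free coordinates of a chart. -/
abbrev CoordIdx : Type u := ULift.{u} ({j : Fin N₀ // j ∉ Set.range σ} × Fin r)

theorem exists_chart_algEquiv (hσ : Function.Injective σ) :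
    ∃ e : MvPolynomial (CoordIdx.{u} σ) Γ((S0 U).left, ⊤) ≃+* B U (fun d => b (σ d)),
      (∀ a, e (MvPolynomial.C a) = algB U (fun d => b (σ d)) a) ∧
      ∀ p, e (MvPolynomial.X p) = Ideal.Quotient.mk _ (MvPolynomial.X (b p.down.1.1, p.down.2)) := by
  classical
  let J : Fin r → MS E U := fun d => b (σ d)
  let mk := Ideal.Quotient.mk (Ideal.span (rels U J))
  have hmk : ∀ f ∈ rels U J, mk f = 0 := fun f hf => Ideal.Quotient.eq_zero_iff_mem.2 (Ideal.subset_span hf)
  let ent : Fin N₀ → Fin r → MvPolynomial (CoordIdx.{u} σ) Γ((S0 U).left, ⊤) := fun j c =>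
    if h : j ∈ Set.range σ then (if σ c = j then 1 else 0) else MvPolynomial.X ⟨⟨j, h⟩, c⟩
  let χ₀ : PolyR (E := E) (r := r) U →+* MvPolynomial (CoordIdx.{u} σ) Γ((S0 U).left, ⊤) :=
    MvPolynomial.eval₂Hom MvPolynomial.C fun p => ∑ j, MvPolynomial.C (b.repr p.1 j) * ent j p.2
  have hX : ∀ m c, χ₀ (MvPolynomial.X (m, c)) = ∑ j, MvPolynomial.C (b.repr m j) * ent j c := fun m c =>
    MvPolynomial.eval₂_X MvPolynomial.C (fun p : MS E U × Fin r => ∑ j, MvPolynomial.C (b.repr p.1 j) * ent j p.2)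
      (m, c)
  have hC : ∀ x, χ₀ (MvPolynomial.C x) = MvPolynomial.C x := fun x =>
    MvPolynomial.eval₂_C MvPolynomial.C (fun p : MS E U × Fin r => ∑ j, MvPolynomial.C (b.repr p.1 j) * ent j p.2) x
  have hb : ∀ j c, χ₀ (MvPolynomial.X (b j, c)) = ent j c := fun j c => by
    rw [hX, b.repr_self, Finset.sum_eq_single j (fun i _ hi => by
      rw [Finsupp.single_eq_of_ne hi, map_zero, zero_mul]) (by simp), Finsupp.single_eq_same, map_one, one_mul]
  have hrel : ∀ f ∈ Ideal.span (rels U J), χ₀ f = 0 := fun f hf => by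
    refine (show Ideal.span (rels U J) ≤ RingHom.ker χ₀ from Ideal.span_le.2 ?_) hf
    rintro _ (⟨m, m', c, rfl⟩ | ⟨x, m, c, rfl⟩ | ⟨d, c, rfl⟩) <;> rw [SetLike.mem_coe, RingHom.mem_ker]
    · rw [map_sub, map_sub, hX, hX, hX, ← Finset.sum_sub_distrib, ← Finset.sum_sub_distrib]
      exact Finset.sum_eq_zero fun j _ => by rw [map_add, Finsupp.add_apply, map_add]; ring
    · rw [map_sub, map_mul, hX, hX, hC, Finset.mul_sum, ← Finset.sum_sub_distrib]
      exact Finset.sum_eq_zero fun j _ => by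
        rw [map_smul, Finsupp.smul_apply, smul_eq_mul, map_mul]; ring
    · rw [map_sub, hb]
      simp only [ent]
      rw [dif_pos ⟨d, rfl⟩, sub_eq_zero, apply_ite χ₀, map_one, map_zero]
      exact if_congr hσ.eq_iff rfl rfl
  let g : B U J →+* MvPolynomial (CoordIdx.{u} σ) Γ((S0 U).left, ⊤) := Ideal.Quotient.lift _ χ₀ hrel
  let h : MvPolynomial (CoordIdx.{u} σ) Γ((S0 U).left, ⊤) →+* B U J :=
    MvPolynomial.eval₂Hom (algB U J) fun p => mk (MvPolynomial.X (b p.down.1.1, p.down.2))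
  have hhC : ∀ x, h (MvPolynomial.C x) = algB U J x := fun x =>
    MvPolynomial.eval₂_C (algB U J) (fun p : CoordIdx.{u} σ => mk (MvPolynomial.X (b p.down.1.1, p.down.2))) x
  have hhX : ∀ p, h (MvPolynomial.X p) = mk (MvPolynomial.X (b p.down.1.1, p.down.2)) := fun p =>
    MvPolynomial.eval₂_X (algB U J) (fun p : CoordIdx.{u} σ => mk (MvPolynomial.X (b p.down.1.1, p.down.2))) p
  have hent : ∀ j c, h (ent j c) = mk (MvPolynomial.X (b j, c)) := fun j c => by
    by_cases hj : j ∈ Set.range σ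
    · obtain ⟨d, rfl⟩ := hj
      have := hmk _ (Or.inr (Or.inr ⟨d, c, rfl⟩))
      rw [map_sub, sub_eq_zero] at this
      show h (ent (σ d) c) = mk (MvPolynomial.X (J d, c))
      rw [this]
      simp only [ent, dif_pos (Set.mem_range_self d)]
      by_cases hc : c = d
      · subst hc; simp
      · simp [hc, hσ.ne hc]
    · simp only [ent, dif_neg hj]
      exact hhX _
  have hlin : ∀ m c, mk (MvPolynomial.X (m, c)) = ∑ j, algB U J (b.repr m j) * mk (MvPolynomial.X (b j, c)) := by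
    intro m c
    let φ : MS E U →+ B U J := AddMonoidHom.mk' (fun m => mk (MvPolynomial.X (m, c))) fun m m' => by
      have := hmk _ (Or.inl ⟨m, m', c, rfl⟩)
      rw [map_sub, map_sub, sub_sub, sub_eq_zero] at this
      exact this
    have hφ : ∀ (x : Γ((S0 U).left, ⊤)) m, φ (x • m) = algB U J x * φ m := fun x m => by
      have := hmk _ (Or.inr (Or.inl ⟨x, m, c, rfl⟩))
      rw [map_sub, sub_eq_zero, map_mul] at this
      exact this
    show φ m = _
    conv_lhs => rw [← b.sum_repr m]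
    rw [map_sum]
    exact Finset.sum_congr rfl fun j _ => hφ _ _
  have hgh : g.comp h = RingHom.id _ := MvPolynomial.ringHom_ext (fun x => by
      show g (h (MvPolynomial.C x)) = MvPolynomial.C x
      rw [hhC]
      exact (Ideal.Quotient.lift_mk _ _ _).trans (hC x)) fun p => by
    show g (h (MvPolynomial.X p)) = MvPolynomial.X p
    rw [hhX]
    refine ((Ideal.Quotient.lift_mk _ _ _).trans (hb _ _)).trans ?_
    exact dif_neg p.down.1.2
  have hhg : h.comp g = RingHom.id _ := Ideal.Quotient.ringHom_ext (MvPolynomial.ringHom_ext (fun x => by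
      show h (g (mk (MvPolynomial.C x))) = mk (MvPolynomial.C x)
      rw [show g (mk (MvPolynomial.C x)) = MvPolynomial.C x from (Ideal.Quotient.lift_mk _ _ _).trans (hC x), hhC]
      rfl) fun p => by
    show h (g (mk (MvPolynomial.X p))) = mk (MvPolynomial.X p)
    rw [show g (mk (MvPolynomial.X p)) = ∑ j, MvPolynomial.C (b.repr p.1 j) * ent j p.2 from
      (Ideal.Quotient.lift_mk _ _ _).trans (hX p.1 p.2), map_sum, hlin]
    exact Finset.sum_congr rfl fun j _ => by rw [map_mul, hhC, hent])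
  exact ⟨RingEquiv.ofRingHom h g hhg hgh, hhC, hhX⟩

theorem smoothOfRelativeDimension_chart (hσ : Function.Injective σ) :
    SmoothOfRelativeDimension (r * (N₀ - r)) (N U (fun d => b (σ d))).hom := by
  classical
  obtain ⟨e, he, -⟩ := exists_chart_algEquiv U b σ hσ
  have hcard : Fintype.card (CoordIdx.{u} σ) = r * (N₀ - r) := by
    rw [Fintype.card_ulift, Fintype.card_prod, Fintype.card_fin,
      show Fintype.card {j : Fin N₀ // j ∉ Set.range σ} = N₀ - r by
        rw [Fintype.card_subtype_compl, Fintype.card_fin, show Fintype.card {j : Fin N₀ // j ∈ Set.range σ} = r from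
          (Fintype.card_congr (Equiv.ofInjective σ hσ).symm).trans (Fintype.card_fin r)], mul_comm]
  have h1 : SmoothOfRelativeDimension (r * (N₀ - r))
      (Spec.map (CommRingCat.ofHom (algB U fun d => b (σ d)))) := by
    rw [show CommRingCat.ofHom (algB U fun d => b (σ d)) =
      CommRingCat.ofHom (algebraMap Γ((S0 U).left, ⊤) (MvPolynomial (CoordIdx.{u} σ) Γ((S0 U).left, ⊤))) ≫
        e.toCommRingCatIso.hom from CommRingCat.hom_ext (RingHom.ext fun a => (he a).symm), Spec.map_comp,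
      MorphismProperty.cancel_left_of_respectsIso (@SmoothOfRelativeDimension (r * (N₀ - r)))]
    exact Grass26.smoothOfRelativeDimension_polynomial _ _ (Fintype.equivFinOfCardEq hcard)
  haveI : IsOpenImmersion ((S0 U).left.isoSpec.inv ≫ U.2.fromSpec) := inferInstance
  haveI := h1
  have h2 := smoothOfRelativeDimension_comp (n := r * (N₀ - r)) (m := 0)
    (Spec.map (CommRingCat.ofHom (algB U fun d => b (σ d)))) ((S0 U).left.isoSpec.inv ≫ U.2.fromSpec)
  rw [add_zero] at h2
  exact h2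

theorem irreducibleSpace_chart [IrreducibleSpace X] (hσ : Function.Injective σ) (hU : (U.1 : Set X).Nonempty) :
    IrreducibleSpace (N U (fun d => b (σ d))).left := by
  obtain ⟨e, -⟩ := exists_chart_algEquiv U b σ hσ
  show IrreducibleSpace (PrimeSpectrum (B U fun d => b (σ d)))
  suffices IrreducibleSpace (PrimeSpectrum (MvPolynomial (CoordIdx.{u} σ) Γ((S0 U).left, ⊤))) from
    (PrimeSpectrum.homeomorphOfRingEquiv e).irreducibleSpace_iff.1 this
  haveI : PreirreducibleSpace (U.1 : Set X) := Subtype.preirreducibleSpace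
    ((PreirreducibleSpace.isPreirreducible_univ (X := X)).open_subset U.1.2 (Set.subset_univ _))
  haveI hI : IrreducibleSpace (U.1 : Scheme.{u}) :=
    @IrreducibleSpace.mk (U.1 : Scheme.{u}) _ ‹PreirreducibleSpace (U.1 : Set X)› hU.to_subtype
  have hA : IrreducibleSpace (PrimeSpectrum Γ((S0 U).left, ⊤)) :=
    (U.2.isoSpec ≪≫ (S0 U).left.isoSpec).hom.homeomorph.irreducibleSpace_iff.1 hI
  rw [PrimeSpectrum.irreducibleSpace_iff_isPrime_nilradical] at hA ⊢
  let f := MvPolynomial.map (σ := CoordIdx.{u} σ) (Ideal.Quotient.mk (nilradical Γ((S0 U).left, ⊤)))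
  have hf : nilradical (MvPolynomial (CoordIdx.{u} σ) Γ((S0 U).left, ⊤)) = RingHom.ker f := by
    ext p
    rw [mem_nilradical, MvPolynomial.isNilpotent_iff, RingHom.mem_ker, MvPolynomial.ext_iff]
    simp [f, MvPolynomial.coeff_map, Ideal.Quotient.eq_zero_iff_mem, mem_nilradical]
  rw [hf]
  exact RingHom.ker_isPrime f

theorem surjective_chart_to (hσ : Function.Injective σ) (x : X) (hx : x ∈ U.1) :
    ∃ p, (N U (fun d => b (σ d))).hom p = x := by
  obtain ⟨e, he, -⟩ := exists_chart_algEquiv U b σ hσ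
  let J : Fin r → MS E U := fun d => b (σ d)
  let ev : B U J →+* Γ((S0 U).left, ⊤) :=
    (MvPolynomial.eval₂Hom (RingHom.id _) fun _ => 0).comp e.symm.toRingHom
  have hev : ev.comp (algB U J) = RingHom.id _ := RingHom.ext fun a => by
    show MvPolynomial.eval₂Hom _ _ (e.symm (algB U J a)) = a
    rw [← he, e.symm_apply_apply]
    simp
  obtain ⟨z, rfl⟩ := (IsAffineOpen.range_fromSpec U.2).ge hx
  refine ⟨Spec.map (CommRingCat.ofHom ev) ((S0 U).left.isoSpec.hom z), ?_⟩
  show (Spec.map (CommRingCat.ofHom ev) ≫ Spec.map (CommRingCat.ofHom (algB U J)) ≫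
    (S0 U).left.isoSpec.inv ≫ U.2.fromSpec) ((S0 U).left.isoSpec.hom z) = _
  rw [← Spec.map_comp_assoc, ← CommRingCat.ofHom_comp, hev, CommRingCat.ofHom_id, Spec.map_id, Category.id_comp]
  exact congrArg (fun f : (S0 U).left ⟶ X => f z) (Iso.hom_inv_id_assoc (S0 U).left.isoSpec U.2.fromSpec)

end Ring

/-- Charts from a basis cover the part over the affine open. -/
theorem exists_mem_loc_basis (T : Over X) (x : Obj E r T) (p : T.left) (hp : p ∈ W0 U T) :
    ∃ σ : Fin r → Fin N₀, Function.Injective σ ∧ p ∈ loc U (fun d => b (σ d)) T x := by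
  classical
  obtain ⟨Q, q, hq, hQ, hx⟩ := exists_eq_mkQ x
  haveI := hq
  let T₁ := opn T (W0 U T)
  let q₁ := bc (opnι T (W0 U T)) q
  let Q₁ := (Scheme.Modules.pullback (opnι T (W0 U T)).left).obj Q
  let p₁ : T₁.left := ⟨p, hp⟩
  let v : Fin N₀ → Q₁.presheaf.stalk p₁ := fun j =>
    Q₁.presheaf.germ ⊤ p₁ trivial (q₁.app ⊤ (secT (aW U T) (b j)))
  let φ : MS E U →+ Q₁.presheaf.stalk p₁ := AddMonoidHom.mk'
    (fun m => Q₁.presheaf.germ ⊤ p₁ trivial (q₁.app ⊤ (secT (aW U T) m)))
    fun m m' => by rw [secT_add, map_add, map_add]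
  have hφ : ∀ m, φ m ∈ Submodule.span (T₁.left.presheaf.stalk p₁) (Set.range v) := fun m => by
    rw [← b.sum_repr m, map_sum]
    refine Submodule.sum_mem _ fun j _ => ?_
    show Q₁.presheaf.germ ⊤ p₁ trivial (q₁.app ⊤ (secT (aW U T) (b.repr m j • b j))) ∈ _
    rw [secT_smul, Scheme.Modules.Hom.app_smul]
    erw [WeakAss.germ_smul]
    exact Submodule.smul_mem _ _ (Submodule.subset_span ⟨j, rfl⟩)
  have hv : Submodule.span (T₁.left.presheaf.stalk p₁) (Set.range v) = ⊤ := by
    rw [eq_top_iff, ← LinearMap.range_eq_top.2 (stalkLin_surjective q₁ p₁), LinearMap.range_eq_map,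
      ← span_germ_secT U p₁ (aW U T), Submodule.map_span, Submodule.span_le, ← Set.range_comp]
    rintro _ ⟨m, rfl⟩
    rw [Function.comp_apply, stalkLin_germ]
    exact hφ m
  obtain ⟨b₀⟩ := nonempty_stalk_basis (OX.isFinLocFreeOfRank_pullback (opnι T (W0 U T)).left hQ) p₁
  haveI : Module.Flat (T₁.left.presheaf.stalk p₁) (Q₁.presheaf.stalk p₁) :=
    haveI := Module.Free.of_basis b₀
    inferInstance
  obtain ⟨r', α, b', hb'⟩ := OX.exists_basis_sub
    (ModuleCat.of (T₁.left.presheaf.stalk p₁) (Q₁.presheaf.stalk p₁)) ‹_› v hv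
  obtain rfl : r' = r := by simpa using Fintype.card_congr (b'.indexEquiv b₀)
  refine ⟨α, fun c c' hcc => b'.injective ((hb' c).trans ((congrArg v hcc).trans (hb' c').symm)),
    mem_loc_of_spanAt U _ hx p₁ ?_⟩
  refine eq_top_iff.2 (b'.span_eq.ge.trans (Submodule.span_le.2 ?_))
  rintro _ ⟨c, rfl⟩
  exact Submodule.subset_span ⟨c, (hb' c).symm⟩

theorem appTop_id_over (T : Over X) (x : Γ(T.left, ⊤)) : (𝟙 T : T ⟶ T).left.appTop x = x := by
  rw [Over.id_left, Scheme.Hom.id_appTop]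
  rfl

/-- Sections of a chart given by arbitrary free coordinates. -/
theorem exists_chart_section {σ : Fin r → Fin N₀} (hσ : Function.Injective σ)
    (v : CoordIdx.{u} σ → Γ((S0 U).left, ⊤)) :
    ∃ s : S0 U ⟶ N U (fun d => b (σ d)),
      (∀ p, s.left.appTop (lU U (fun d => b (σ d)) (b p.down.1.1) p.down.2) = v p) ∧
      ∀ d c, s.left.appTop (lU U (fun d => b (σ d)) (b (σ d)) c) = if c = d then 1 else 0 := by
  classical
  obtain ⟨e, he, heX⟩ := exists_chart_algEquiv U b σ hσ
  obtain ⟨χ, hχ, hχX⟩ : ∃ χ : B U (fun d => b (σ d)) →+* Γ((S0 U).left, ⊤),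
      (∀ x, χ (algB U _ x) = x) ∧
        ∀ p, χ (Ideal.Quotient.mk _ (MvPolynomial.X (b p.down.1.1, p.down.2))) = v p := by
    refine ⟨(MvPolynomial.eval₂Hom (RingHom.id _) v).comp e.symm.toRingHom, fun x => ?_, fun p => ?_⟩
    · rw [RingHom.comp_apply, RingEquiv.toRingHom_eq_coe, RingEquiv.coe_toRingHom, ← he, RingEquiv.symm_apply_apply,
        MvPolynomial.coe_eval₂Hom, MvPolynomial.eval₂_C, RingHom.id_apply]
    · rw [RingHom.comp_apply, RingEquiv.toRingHom_eq_coe, RingEquiv.coe_toRingHom, ← heX, RingEquiv.symm_apply_apply,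
        MvPolynomial.coe_eval₂Hom, MvPolynomial.eval₂_X]
  obtain ⟨s, -, hs⟩ := exists_hom_N U (fun d => b (σ d)) (𝟙 (S0 U)) χ fun x =>
    (hχ x).trans (appTop_id_over (S0 U) x).symm
  refine ⟨s, fun p => (hs _ _).trans (hχX p), fun d c => (hs _ _).trans ?_⟩
  have h0 : Ideal.Quotient.mk (Ideal.span (rels U fun d => b (σ d)))
      (MvPolynomial.X (b (σ d), c) - if c = d then 1 else 0) = 0 :=
    Ideal.Quotient.eq_zero_iff_mem.2 (Ideal.subset_span (Or.inr (Or.inr ⟨d, c, rfl⟩)))
  rw [map_sub, sub_eq_zero] at h0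
  rw [h0]
  split_ifs
  · rw [map_one, map_one]
  · rw [map_zero, map_zero]

theorem exists_perm_of_inj {σ σ' : Fin r → Fin N₀} (hσ' : Function.Injective σ') :
    ∃ g : Equiv.Perm (Fin r), ∀ d, σ' d ∈ Set.range σ → σ (g d) = σ' d := by
  classical
  let f : {d : Fin r // σ' d ∈ Set.range σ} → Fin r := fun d => d.2.choose
  have hfs : ∀ d, σ (f d) = σ' d.1 := fun d => d.2.choose_spec
  have hf : Function.Injective f := fun d d' h =>
    Subtype.ext (hσ' (by rw [← hfs, ← hfs, h]))
  obtain ⟨g, hg⟩ := Equiv.Perm.exists_extending_pair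
    (Subtype.val : {d : Fin r // σ' d ∈ Set.range σ} → Fin r) f Subtype.val_injective hf
  exact ⟨g, fun d hd => (congrArg σ (hg ⟨d, hd⟩)).trans (hfs ⟨d, hd⟩)⟩

theorem spanAt_perm {Y : Scheme.{u}} {Q : Y.Modules} (s s' : Fin r → Γ(Q, ⊤)) (g : Equiv.Perm (Fin r))
    (h : ∀ d, s' d = s (g d)) (y : Y) (hs : SpanAt s y) : SpanAt s' y := by
  unfold SpanAt at hs ⊢
  rw [← hs]
  congr 1
  ext w
  constructor
  · rintro ⟨d, rfl⟩
    exact ⟨g d, congrArg _ (h d).symm⟩
  · rintro ⟨c, rfl⟩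
    exact ⟨g.symm c, congrArg _ ((h _).trans (congrArg s (Equiv.apply_symm_apply g c)))⟩

omit b in
theorem IsCoeff.apply_of_eq_single {T : Over X} {a : T ⟶ S0 U} {J : Fin r → MS E U} {Q : T.left.Modules}
    {q : EP E T ⟶ Q} {l : MS E U → Fin r → Γ(T.left, ⊤)} (hl : IsCoeff U a J q l) {m : MS E U} {c₀ : Fin r}
    (hm : ∀ c, l m c = if c = c₀ then 1 else 0) : q.app ⊤ (secT a m) = jsec U a J q c₀ := by
  rw [hl m, Finset.sum_eq_single c₀ (fun c _ hc => by rw [hm, if_neg hc, zero_smul]) (by simp), hm, if_pos rfl,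
    one_smul]

/-- Two charts over the same affine open meet. -/
theorem exists_chart_meet {σ σ' : Fin r → Fin N₀} (hσ : Function.Injective σ) (hσ' : Function.Injective σ')
    {M : Over X} {m : Obj E r M} (hm : ∀ (T : Over X) (x : Obj E r T), ∃! a : T ⟶ M, omap a m = x)
    (hU : (U.1 : Set X).Nonempty) :
    ∃ p, p ∈ loc U (fun d => b (σ d)) M m ∧ p ∈ loc U (fun d => b (σ' d)) M m := by
  classical
  obtain ⟨g, hg⟩ := exists_perm_of_inj (σ := σ) hσ'
  obtain ⟨s, hs, hs'⟩ := exists_chart_section U b hσ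
    (fun p => if ∃ d, σ' d = p.down.1.1 ∧ g d = p.down.2 then 1 else 0)
  have hval : ∀ d c, s.left.appTop (lU U (fun d => b (σ d)) (b (σ' d)) c) = if c = g d then 1 else 0 := fun d c => by
    by_cases hd : σ' d ∈ Set.range σ
    · rw [← hg d hd, hs']
    · refine (hs ⟨⟨σ' d, hd⟩, c⟩).trans (if_congr ⟨?_, fun h => ⟨d, rfl, h.symm⟩⟩ rfl rfl)
      rintro ⟨d', h1, h2⟩
      exact h2.symm.trans (congrArg g (hσ' h1))
  haveI := epi_qN U (fun d => b (σ d))
  obtain ⟨hgood, hcoeff⟩ := good_bc_qN U (fun d => b (σ d)) s (𝟙 (S0 U))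
  have hJ' : ∀ d, jsec U (𝟙 (S0 U)) (fun d => b (σ' d)) (bc s (qN U (fun d => b (σ d)))) d =
      jsec U (𝟙 (S0 U)) (fun d => b (σ d)) (bc s (qN U (fun d => b (σ d)))) (g d) := fun d => by
    exact IsCoeff.apply_of_eq_single U hcoeff (hval d)
  obtain ⟨z, -⟩ := (IsAffineOpen.range_fromSpec U.2).ge hU.some_mem
  have hzmem : z ∈ loc U (fun d => b (σ' d)) (S0 U) (omap s (nN U (fun d => b (σ d)))) := by
    rw [nN, omap_mkQ, mem_loc_iff_spanAt U (fun d => b (σ' d)) (𝟙 (S0 U))]
    exact spanAt_perm _ _ g hJ' z (hgood.2 z)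
  obtain ⟨bN, hbN, hI, hr⟩ := exists_chart_hom U (fun d => b (σ d)) hm
  refine ⟨bN.left (s.left z), hr.le ⟨_, rfl⟩, ?_⟩
  rw [← hbN, ← omap_comp, loc_omap] at hzmem
  exact hzmem

end GrothLib.GrassSch26
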