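import Groth.Agent.Lib.GrassSch26.Chart
import Groth.Agent.Lib.OpenRep26.Basic

/-!
# The Grassmannian of a quasi-coherent module over an arbitrary scheme
-/

set_option autoImplicit false
set_option linter.style.haveILetI false
set_option backward.isDefEq.respectTransparency false
universe u

noncomputable section

open CategoryTheory CategoryTheory.Limits AlgebraicGeometry Opposite TopologicalSpace
open GrothLib.QCoh (stalkLin stalkLin_comp stalkLin_germ stalkLin_injective)
open GrothLib.QuotTan26 GrothLib.GrassCat26 GrothLib.RepLocal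

namespace GrothLib.GrassSch26

variable {X : Scheme.{u}} {E : X.Modules} [E.IsQuasicoherent] {r : ℕ}

section Loc

variable {T : Over X} (U : X.affineOpens) (J : Fin r → MS E U)

/-- The part of the scheme over the affine open. -/
abbrev W0 (T : Over X) : T.left.Opens := T.hom ⁻¹ᵁ U.1

/-- Its map to the affine open. -/
def aW (T : Over X) : opn T (W0 U T) ⟶ S0 U :=
  Over.homMk (IsOpenImmersion.lift U.2.fromSpec ((W0 U T).ι ≫ T.hom) (by
    rintro _ ⟨p, rfl⟩
    exact (IsAffineOpen.range_fromSpec U.2).ge p.2)) (IsOpenImmersion.lift_fac _ _ _)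

/-- The locus where a point comes from a chart. -/
def loc (T : Over X) (x : Obj E r T) : T.left.Opens :=
  ⨆ V : {V : T.left.Opens // ∃ a : opn T V ⟶ N U J, omap a (nN U J) = omap (opnι T V) x}, V.1

theorem mem_loc_of_spanAt {x : Obj E r T} {Q : T.left.Modules} {q : EP E T ⟶ Q} {hq : Epi q}
    {hQ : FlatMod.IsFinLocFreeOfRank r Q} (hx : x = mkQ q hq hQ) (p : (opn T (W0 U T)).left)
    (h : SpanAt (jsec U (aW U T) J (bc (opnι T (W0 U T)) q)) p) : (W0 U T).ι p ∈ loc U J T x := by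
  haveI := hq
  obtain ⟨O, hpO, hO⟩ := exists_nhd_spanAt (OX.isFinLocFreeOfRank_pullback (opnι T (W0 U T)).left hQ) _ h
  let V : T.left.Opens := (W0 U T).ι ''ᵁ O
  have hVW : V ≤ W0 U T := by
    rintro _ ⟨z, -, rfl⟩
    exact z.2
  let g := opnMap T hVW
  have hz : ∀ z : (opn T V).left, g.left z ∈ O := fun z => by
    obtain ⟨z', hz', hz''⟩ := z.2
    have e : g.left z = z' := Subtype.ext
      ((congrArg (fun f : (V : Scheme.{u}) ⟶ T.left => f z) (T.left.homOfLE_ι hVW)).trans hz''.symm)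
    rw [e]
    exact hz'
  have hG : Good U (g ≫ aW U T) J (bc g (bc (opnι T (W0 U T)) q)) :=
    ⟨OX.isFinLocFreeOfRank_pullback g.left (OX.isFinLocFreeOfRank_pullback (opnι T (W0 U T)).left hQ), fun z => by
      have := spanAt_pullSec g.left _ (hO (g.left z) (hz z))
      rw [show jsec U (g ≫ aW U T) J (bc g (bc (opnι T (W0 U T)) q)) = _ from funext (bc_jsec g)]
      exact this⟩
  obtain ⟨b, hb⟩ := exists_classify U J _ _ inferInstance hG
  refine Opens.mem_iSup.2 ⟨⟨V, b, hb.trans ?_⟩, ⟨p, hpO, rfl⟩⟩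
  rw [hx, ← opnMap_opnι T hVW, omap_comp, omap_mkQ, omap_mkQ]

theorem mem_loc_iff (T : Over X) (x : Obj E r T) (T' : Over X) (g : T' ⟶ T) :
    Set.range g.left ⊆ (loc U J T x : Set T.left) ↔ ∃ a, omap a (nN U J) = omap g x := by
  refine ⟨fun h => ?_, ?_⟩
  · let Idx := {V : T.left.Opens // ∃ a : opn T V ⟶ N U J, omap a (nN U J) = omap (opnι T V) x}
    let V' : Idx → T'.left.Opens := fun i => g.left ⁻¹ᵁ i.1
    have hV' : IsOpenCover V' := IsOpenCover.mk (top_le_iff.1 fun p _ => by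
      obtain ⟨i, hi⟩ := Opens.mem_iSup.1 (h ⟨p, rfl⟩)
      exact Opens.mem_iSup.2 ⟨i, hi⟩)
    choose a ha using fun i : Idx => i.2
    let gi : ∀ i : Idx, opn T' (V' i) ⟶ opn T i.1 := fun i =>
      Over.homMk (g.left ∣_ i.1) (by
        show g.left ∣_ i.1 ≫ i.1.ι ≫ T.hom = (V' i).ι ≫ T'.hom
        rw [morphismRestrict_ι_assoc, Over.w g])
    have hgi : ∀ i, gi i ≫ opnι T i.1 = opnι T' (V' i) ≫ g := fun i =>
      Over.OverMorphism.ext (morphismRestrict_ι _ _)
    have hb : ∀ i, omap (gi i ≫ a i) (nN U J) = omap (opnι T' (V' i)) (omap g x) := fun i => by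
      rw [omap_comp, ha, ← omap_comp, ← omap_comp, hgi]
    obtain ⟨b, hb'⟩ := exists_glue_opens V' hV' (fun i => gi i ≫ a i) fun i j => by
      refine omap_nN_injective U J _ ?_
      show omap _ _ = omap _ _
      rw [omap_comp, omap_comp _ (opnMap T' _), hb, hb]
      simp only [← omap_comp, ← Category.assoc, opnMap_opnι]
    exact ⟨b, obj_ext V' hV' fun i => by rw [← omap_comp, hb', hb]⟩
  · rintro ⟨a, ha⟩ _ ⟨p, rfl⟩
    have hp : g.left p ∈ W0 U T := by
      show T.hom (g.left p) ∈ U.1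
      rw [← Scheme.Hom.comp_apply, Over.w g, ← Over.w (a ≫ aN U J), Scheme.Hom.comp_apply]
      exact U.2.range_fromSpec.le ⟨_, rfl⟩
    let P : T'.left.Opens := g.left ⁻¹ᵁ W0 U T
    let g' : opn T' P ⟶ opn T (W0 U T) := Over.homMk (g.left ∣_ W0 U T) (by
      show g.left ∣_ W0 U T ≫ (W0 U T).ι ≫ T.hom = P.ι ≫ T'.hom
      rw [morphismRestrict_ι_assoc, Over.w g])
    have hg' : g' ≫ opnι T (W0 U T) = opnι T' P ≫ g := Over.OverMorphism.ext (morphismRestrict_ι _ _)
    obtain ⟨Q, q, hq, hQ, hx⟩ := exists_eq_mkQ x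
    haveI := hq
    haveI := epi_qN U J
    have h1 : omap g' (omap (opnι T (W0 U T)) x) = omap (opnι T' P ≫ a) (nN U J) := by
      rw [← omap_comp, hg', omap_comp, ← ha, ← omap_comp]
    rw [hx, omap_mkQ, omap_mkQ, nN, omap_mkQ] at h1
    obtain ⟨e, he⟩ := mkQ_eq_iff.1 h1.symm
    have h2 := ((good_bc_qN U J (opnι T' P ≫ a) (g' ≫ aW U T)).1.comp_iso e).2 ⟨p, hp⟩
    rw [he] at h2
    rw [show jsec U (g' ≫ aW U T) J (bc g' (bc (opnι T (W0 U T)) q)) = _ from funext (bc_jsec g')] at h2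
    have h3 := spanAt_of_pullSec g'.left (OX.isFinLocFreeOfRank_pullback (opnι T (W0 U T)).left hQ) _ h2
    have h4 := mem_loc_of_spanAt U J hx _ h3
    exact (congrArg (fun f : opn T' P ⟶ T => f.left ⟨p, hp⟩ ∈ loc U J T x) hg').mp h4

theorem span_germ_secT (p : T.left) (a : T ⟶ S0 U) :
    Submodule.span (T.left.presheaf.stalk p)
      (Set.range fun m : MS E U => (EP E T).presheaf.germ ⊤ p trivial (secT a m)) = ⊤ := by
  haveI := isQuasicoherent_EP (E := E) (S0 U)
  have hA : IsAffineOpen (⊤ : (S0 U).left.Opens) := isAffineOpen_top (Spec Γ(X, U.1))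
  have hgen : Submodule.span ((S0 U).left.presheaf.stalk (a.left p))
      (Set.range fun m : MS E U => (EP E (S0 U)).presheaf.germ ⊤ (a.left p) trivial m) = ⊤ := by
    refine eq_top_iff.2 fun v _ => ?_
    obtain ⟨c, z, hc, hz⟩ := WeakAss.exists_smul_eq_germ (F := EP E (S0 U)) hA (x := a.left p) trivial v
    have hu : IsUnit ((S0 U).left.presheaf.germ ⊤ (a.left p) trivial c) :=
      (Scheme.mem_basicOpen _ c (a.left p) trivial).mp (WeakAss.notMem_primeAt_iff.mp hc)
    rw [show v = ((hu.unit⁻¹ : _ˣ) : (S0 U).left.presheaf.stalk (a.left p)) •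
      (EP E (S0 U)).presheaf.germ ⊤ (a.left p) trivial z by rw [← hz, smul_smul, IsUnit.val_inv_mul, one_smul]]
    exact Submodule.smul_mem _ _ (Submodule.subset_span ⟨z, rfl⟩)
  refine eq_top_iff.2 fun v hv => ?_
  clear hv
  obtain ⟨w, rfl⟩ := (bijective_stalkLin (inv (bc a (𝟙 (EP E (S0 U))))) p).2 v
  have hw := (span_range_uS a.left (EP E (S0 U)) p).ge (Submodule.mem_top (x := w))
  induction hw using Submodule.span_induction with
  | mem w hw =>
    obtain ⟨u, rfl⟩ := hw
    show th a p u ∈ _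
    have hu := hgen.ge (Submodule.mem_top (x := u))
    induction hu using Submodule.span_induction with
    | mem u hu =>
      obtain ⟨m, rfl⟩ := hu
      exact Submodule.subset_span ⟨m, germ_sec a ⊤ m p trivial⟩
    | zero => rw [map_zero]; exact zero_mem _
    | add u u' _ _ h h' => rw [map_add]; exact add_mem h h'
    | smul c u _ h => rw [th_smul]; exact Submodule.smul_mem _ _ h
  | zero => rw [map_zero]; exact zero_mem _
  | add w w' _ _ h h' => rw [map_add]; exact add_mem h h'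
  | smul c w _ h => rw [map_smul]; exact Submodule.smul_mem _ _ h

end Loc

theorem exists_mem_loc (T : Over X) (x : Obj E r T) (p : T.left) :
    ∃ (U : X.affineOpens) (J : Fin r → MS E U), p ∈ loc U J T x := by
  classical
  obtain ⟨U₀, hU, hpU, -⟩ := exists_isAffineOpen_mem_and_subset (x := T.hom p) (U := ⊤) trivial
  let U : X.affineOpens := ⟨U₀, hU⟩
  obtain ⟨Q, q, hq, hQ, hx⟩ := exists_eq_mkQ x
  haveI := hq
  let T₁ := opn T (W0 U T)
  let q₁ := bc (opnι T (W0 U T)) q
  let p₁ : T₁.left := ⟨p, hpU⟩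
  have hgen : Submodule.span (T₁.left.presheaf.stalk p₁) (Set.range fun m : MS E U =>
      ((Scheme.Modules.pullback (opnι T (W0 U T)).left).obj Q).presheaf.germ ⊤ p₁ trivial
        (q₁.app ⊤ (secT (aW U T) m))) = ⊤ := by
    rw [← LinearMap.range_eq_top.2 (stalkLin_surjective q₁ p₁), LinearMap.range_eq_map,
      ← span_germ_secT U p₁ (aW U T), Submodule.map_span, ← Set.range_comp]
    exact congrArg _ (congrArg Set.range (funext fun m => (stalkLin_germ q₁ (U := ⊤) trivial _).symm))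
  obtain ⟨b⟩ := nonempty_stalk_basis (OX.isFinLocFreeOfRank_pullback (opnι T (W0 U T)).left hQ) p₁
  have hfin : ∀ i, ∃ s : Finset (MS E U), b i ∈ Submodule.span (T₁.left.presheaf.stalk p₁)
      ((fun m : MS E U => ((Scheme.Modules.pullback (opnι T (W0 U T)).left).obj Q).presheaf.germ ⊤ p₁ trivial
        (q₁.app ⊤ (secT (aW U T) m))) '' ↑s) := fun i => by
    obtain ⟨c, hc⟩ := Finsupp.mem_span_range_iff_exists_finsupp.1 (hgen.ge (Submodule.mem_top (x := b i)))
    refine ⟨c.support, ?_⟩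
    rw [← hc]
    exact Submodule.sum_mem _ fun m hm => Submodule.smul_mem _ _ (Submodule.subset_span ⟨m, hm, rfl⟩)
  choose s hs using hfin
  let S : Finset (MS E U) := Finset.univ.biUnion s
  obtain ⟨n, e⟩ : ∃ n, Nonempty (Fin n ≃ S) := ⟨_, ⟨(Finset.equivFin S).symm⟩⟩
  obtain ⟨e⟩ := e
  let v : Fin n → ((Scheme.Modules.pullback (opnι T (W0 U T)).left).obj Q).presheaf.stalk p₁ := fun i =>
    ((Scheme.Modules.pullback (opnι T (W0 U T)).left).obj Q).presheaf.germ ⊤ p₁ trivial
        (q₁.app ⊤ (secT (aW U T) (e i : MS E U)))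
  have hv : Submodule.span (T₁.left.presheaf.stalk p₁) (Set.range v) = ⊤ := by
    rw [eq_top_iff, ← b.span_eq, Submodule.span_le]
    rintro _ ⟨i, rfl⟩
    refine Submodule.span_mono ?_ (hs i)
    rintro _ ⟨m, hm, rfl⟩
    refine ⟨e.symm ⟨m, Finset.mem_biUnion.2 ⟨i, Finset.mem_univ _, hm⟩⟩, ?_⟩
    simp [v]
  haveI : Module.Flat (T₁.left.presheaf.stalk p₁)
      (((Scheme.Modules.pullback (opnι T (W0 U T)).left).obj Q).presheaf.stalk p₁) :=
    haveI := Module.Free.of_basis b
    inferInstance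
  obtain ⟨r', α, b', hb'⟩ := OX.exists_basis_sub
    (ModuleCat.of (T₁.left.presheaf.stalk p₁)
      (((Scheme.Modules.pullback (opnι T (W0 U T)).left).obj Q).presheaf.stalk p₁)) ‹_› v hv
  obtain rfl : r' = r := by
    simpa using Fintype.card_congr (b'.indexEquiv b)
  refine ⟨U, fun c => (e (α c) : MS E U), mem_loc_of_spanAt U _ hx p₁ ?_⟩
  refine eq_top_iff.2 (b'.span_eq.ge.trans (Submodule.span_le.2 ?_))
  rintro _ ⟨c, rfl⟩
  exact Submodule.subset_span ⟨c, (hb' c).symm⟩

variable (E r) in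
/-- The charts. -/
def chart : OpenRep26.Chart (psh E r) where
  idx := Σ U : X.affineOpens, (Fin r → MS E U)
  N i := N i.1 i.2
  n i := nN i.1 i.2
  inj i T := omap_nN_injective i.1 i.2 T
  loc T x i := loc i.1 i.2 T x
  mem_loc T x i T' g := mem_loc_iff i.1 i.2 T x T' g
  cover T x p := by
    obtain ⟨U, J, h⟩ := exists_mem_loc T x p
    exact ⟨⟨U, J⟩, h⟩

/-- Grassmannians of quasi-coherent modules exist. -/
theorem exists_isGrass (E : X.Modules) [E.IsQuasicoherent] (r : ℕ) :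
    ∃ (G : Scheme.{u}) (π : G ⟶ X) (Q : G.Modules) (q : (Scheme.Modules.pullback π).obj E ⟶ Q),
      Grass.IsGrass π E r Q q := by
  obtain ⟨M, m, hm⟩ := (chart E r).exists_representing isSheaf_psh
  refine ⟨M.left, M.hom, _, cokernel.π m.1.arrow, m.2, inferInstance, fun T g L hL s hs => ?_⟩
  have key : ∀ (h : T ⟶ M.left) (hg : h ≫ M.hom = g),
      (psh E r).map (Over.homMk h hg : Over.mk g ⟶ M) m = mkQ (T := Over.mk g) s hs hL ↔
      ∃ e : (Scheme.Modules.pullback h).obj (cokernel m.1.arrow) ≅ L,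
        Grass.quotBC hg (cokernel.π m.1.arrow) ≫ e.hom = s := fun h hg =>
    mkQ_eq_iff (hq := inferInstance) (hQ := OX.isFinLocFreeOfRank_pullback h m.2)
  obtain ⟨a, ha, hau⟩ := hm (Over.mk g) (mkQ (T := Over.mk g) s hs hL)
  have hw : a.left ≫ M.hom = g := Over.w a
  refine ⟨a.left, ⟨hw, (key a.left hw).1 ha⟩, fun h' ⟨hg', he'⟩ => ?_⟩
  exact congrArg CategoryTheory.Over.Hom.left (hau (Over.homMk h' hg') ((key h' hg').2 he'))

end GrothLib.GrassSch26
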