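import Groth.Agent.Lib.GrassSch26.WedgePoint
import Groth.Agent.Lib.HilbStrat10.Bc0
import Mathlib.AlgebraicGeometry.Morphisms.ClosedImmersion

/-!
# The Plücker embedding into the projective bundle of an exterior power
-/

set_option autoImplicit false
set_option linter.style.haveILetI false
set_option backward.isDefEq.respectTransparency false
set_option linter.unusedSectionVars false
set_option synthInstance.maxHeartbeats 200000
set_option maxHeartbeats 800000
universe u

noncomputable section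

open CategoryTheory CategoryTheory.Limits AlgebraicGeometry Opposite TopologicalSpace
open GrothLib.QCoh (stalkLin stalkLin_comp stalkLin_germ stalkLin_injective germ_map)
open GrothLib.QuotTan26 GrothLib.RepLocal
open GrothLib.ExtPowX (wedge eta)

namespace GrothLib.GrassSch26

variable {X : Scheme.{u}} {E : X.Modules} [E.IsQuasicoherent] {r : ℕ}

section Loc

variable (U : X.affineOpens) (J : Fin r → MS E U)

theorem hom_mem_of_hom {T : Over X} (a : T ⟶ S0 U) (t : T.left) : T.hom t ∈ U.1 := by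
  rw [← Over.w a, Scheme.Hom.comp_apply]
  exact (IsAffineOpen.range_fromSpec U.2).le ⟨_, rfl⟩

theorem loc_le (T : Over X) (x : Obj E r T) : loc U J T x ≤ W0 U T := fun t ht => by
  obtain ⟨V, hV⟩ := Opens.mem_iSup.1 ht
  obtain ⟨a, -⟩ := V.2
  exact hom_mem_of_hom U (a ≫ aN U J) (⟨t, hV⟩ : (opn T V.1).left)

theorem loc_omap {T T' : Over X} (g : T' ⟶ T) (x : Obj E r T) :
    loc U J T' (omap g x) = g.left ⁻¹ᵁ loc U J T x := by
  have key : ∀ V : T'.left.Opens, (V : Set T'.left) ⊆ (loc U J T' (omap g x) : Set T'.left) ↔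
      (V : Set T'.left) ⊆ (g.left ⁻¹ᵁ loc U J T x : Set T'.left) := fun V => by
    have h1 := mem_loc_iff U J T' (omap g x) (opn T' V) (opnι T' V)
    have h2 := mem_loc_iff U J T x (opn T' V) (opnι T' V ≫ g)
    have hr : Set.range (opnι T' V).left = (V : Set T'.left) := Scheme.Opens.range_ι V
    rw [hr] at h1
    rw [h1, ← omap_comp, ← h2]
    show Set.range (V.ι ≫ g.left) ⊆ _ ↔ _
    refine ⟨fun h p hp => h ⟨⟨p, hp⟩, rfl⟩, ?_⟩
    rintro h _ ⟨p, rfl⟩
    exact h p.2
  exact le_antisymm ((key _).1 subset_rfl) ((key _).2 subset_rfl)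

theorem mem_loc_iff_spanAt {T : Over X} (a : T ⟶ S0 U) {Q : T.left.Modules} (q : EP E T ⟶ Q) (hq : Epi q)
    (hQ : FlatMod.IsFinLocFreeOfRank r Q) (t : T.left) :
    t ∈ loc U J T (mkQ q hq hQ) ↔ SpanAt (jsec U a J q) t := by
  haveI := hq
  haveI := epi_qN U J
  constructor
  · intro ht
    obtain ⟨⟨V, b, hb⟩, hV⟩ := Opens.mem_iSup.1 ht
    rw [omap_mkQ, nN, omap_mkQ] at hb
    obtain ⟨e, he⟩ := mkQ_eq_iff.1 hb
    have h2 := ((good_bc_qN U J b (opnι T V ≫ a)).1.comp_iso e).2 ⟨t, hV⟩
    rw [he, show jsec U (opnι T V ≫ a) J (bc (opnι T V) q) = _ from funext (bc_jsec (opnι T V))] at h2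
    exact spanAt_of_pullSec (opnι T V).left hQ _ h2
  · intro h
    obtain ⟨O, htO, hO⟩ := exists_nhd_spanAt hQ _ h
    have hG : Good U (opnι T O ≫ a) J (bc (opnι T O) q) :=
      ⟨OX.isFinLocFreeOfRank_pullback (opnι T O).left hQ, fun z => by
        have := spanAt_pullSec (opnι T O).left _ (hO ((opnι T O).left z) z.2)
        rw [show jsec U (opnι T O ≫ a) J (bc (opnι T O) q) = _ from funext (bc_jsec (opnι T O))]
        exact this⟩
    obtain ⟨b, hb⟩ := exists_classify U J _ _ inferInstance hG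
    refine Opens.mem_iSup.2 ⟨⟨O, b, hb.trans ?_⟩, htO⟩
    rw [omap_mkQ]

theorem exists_chart_hom {M : Over X} {m : Obj E r M}
    (hm : ∀ (T : Over X) (x : Obj E r T), ∃! a : T ⟶ M, omap a m = x) :
    ∃ b : N U J ⟶ M, omap b m = nN U J ∧ ∃ (_ : IsOpenImmersion b.left), b.left.opensRange = loc U J M m := by
  obtain ⟨b, hb, -⟩ := hm (N U J) (nN U J)
  obtain ⟨a, ha⟩ := (mem_loc_iff U J M m (opn M (loc U J M m)) (opnι M (loc U J M m))).1
    (Scheme.Opens.range_ι _).le
  have hr : Set.range b.left ⊆ Set.range (loc U J M m).ι := by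
    rw [Scheme.Opens.range_ι]
    exact (mem_loc_iff U J M m (N U J) b).2 ⟨𝟙 _, by rw [omap_id, hb]⟩
  let b' : N U J ⟶ opn M (loc U J M m) := Over.homMk (IsOpenImmersion.lift (loc U J M m).ι b.left hr)
    ((IsOpenImmersion.lift_fac_assoc _ _ _ _).trans (Over.w b))
  have hb' : b' ≫ opnι M (loc U J M m) = b := Over.OverMorphism.ext (IsOpenImmersion.lift_fac _ _ _)
  have hab : a ≫ b = opnι M (loc U J M m) :=
    (hm _ (omap (opnι M (loc U J M m)) m)).unique (by rw [omap_comp, hb, ha]) rfl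
  have h1 : b' ≫ a = 𝟙 _ := omap_nN_injective U J _ (by
    show omap (b' ≫ a) (nN U J) = omap (𝟙 _) (nN U J)
    rw [omap_comp, ha, ← omap_comp, hb', hb, omap_id])
  have h2 : a ≫ b' = 𝟙 _ := by
    rw [← cancel_mono (opnι M (loc U J M m)), Category.assoc, hb', hab, Category.id_comp]
  let e : (N U J).left ≅ (loc U J M m : Scheme.{u}) :=
    ⟨b'.left, a.left, congrArg CategoryTheory.Over.Hom.left h1, congrArg CategoryTheory.Over.Hom.left h2⟩
  have hbe : b.left = e.hom ≫ (loc U J M m).ι := (congrArg CategoryTheory.Over.Hom.left hb').symm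
  have hI : IsOpenImmersion b.left := by
    rw [hbe]
    haveI : IsIso e.hom := ⟨e.inv, e.hom_inv_id, e.inv_hom_id⟩
    haveI : IsOpenImmersion e.hom := IsOpenImmersion.of_isIso e.hom
    exact IsOpenImmersion.comp e.hom (loc U J M m).ι
  refine ⟨b, hb, hI, ?_⟩
  ext p
  show p ∈ Set.range b.left ↔ p ∈ loc U J M m
  constructor
  · rintro ⟨z, rfl⟩
    exact (mem_loc_iff U J M m (N U J) b).2 ⟨𝟙 _, by rw [omap_id, hb]⟩ ⟨z, rfl⟩
  · intro hp
    exact ⟨a.left ⟨p, hp⟩, congrArg (fun f : opn M (loc U J M m) ⟶ M => f.left ⟨p, hp⟩) hab⟩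

end Loc

section Sections

variable (U : X.affineOpens)

theorem top_le_preimage : (⊤ : (S0 U).left.Opens) ≤ U.2.fromSpec ⁻¹ᵁ U.1 := fun p _ =>
  (IsAffineOpen.range_fromSpec U.2).le ⟨p, rfl⟩

/-- Sections over an affine open, on the open. -/
def nu (M : X.Modules) (m : Γ(M, U.1)) : MS M U :=
  BCCoh.pullRes U.2.fromSpec M U.1 ⊤ (top_le_preimage U) m

theorem nu_surjective (M : X.Modules) : Function.Surjective (nu U M) :=
  (HilbStrat10.bijective_pullRes U.2.fromSpec M (V := U.1) (V' := ⊤)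
    ((Scheme.Hom.image_top_eq_opensRange _).trans (IsAffineOpen.opensRange_fromSpec U.2)) _).2

theorem germ_secT_nu {M : X.Modules} {T : Over X} (a : T ⟶ S0 U) (t : T.left) (ht : T.hom t ∈ U.1)
    (m : Γ(M, U.1)) : (EP M T).presheaf.germ ⊤ t trivial (secT a (nu U M m)) = gS M T t ht m := by
  refine (germ_sec a ⊤ (nu U M m) t trivial).trans ?_
  refine Eq.trans ?_ (th_gS a t (top_le_preimage U (x := a.left t) trivial) ht m)
  refine congrArg (th a t) ?_
  refine Eq.trans ?_ (uS_germ U.2.fromSpec M (a.left t) (top_le_preimage U (x := a.left t) trivial) m).symm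
  exact germ_map _ _ _ _

theorem germ_jsec {M : X.Modules} [M.IsQuasicoherent] {k : ℕ} {T : Over X} (a : T ⟶ S0 U) (v : Fin k → Γ(M, U.1))
    {Q : T.left.Modules} (q : EP M T ⟶ Q) (t : T.left) (ht : T.hom t ∈ U.1) (c : Fin k) :
    Q.presheaf.germ ⊤ t trivial (jsec U a (fun c => nu U M (v c)) q c) = stalkLin q t (gS M T t ht (v c)) := by
  rw [← germ_secT_nu U a t ht, stalkLin_germ]

end Sections

theorem mem_of_span {R M N : Type u} [CommRing R] [AddCommGroup M] [AddCommGroup N] [Module R M] [Module R N]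
    {k : ℕ} (A : M [⋀^Fin k]→ₗ[R] N) (S : Set M) (hS : Submodule.span R S = ⊤) (P : Submodule R N)
    (h : ∀ z : Fin k → M, (∀ i, z i ∈ S) → A z ∈ P) (z : Fin k → M) : A z ∈ P := by
  classical
  suffices ∀ (n : ℕ) (z : Fin k → M), (∀ i : Fin k, n ≤ i.1 → z i ∈ S) → A z ∈ P from
    this k z fun i hi => absurd i.2 (not_lt.2 hi)
  intro n
  induction n with
  | zero => exact fun z hz => h z fun i => hz i (Nat.zero_le _)
  | succ n ih =>
    intro z hz
    by_cases hn : n < k
    · suffices ∀ w ∈ Submodule.span R S, A (Function.update z ⟨n, hn⟩ w) ∈ P by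
        simpa using this (z ⟨n, hn⟩) (hS.ge Submodule.mem_top)
      intro w hw
      induction hw using Submodule.span_induction with
      | mem w hw =>
        refine ih _ fun i hi => ?_
        rcases eq_or_ne i ⟨n, hn⟩ with rfl | hne
        · rw [Function.update_self]; exact hw
        · rw [Function.update_of_ne hne]
          exact hz i (Nat.lt_of_le_of_ne hi fun e => hne (Fin.ext e.symm))
      | zero => rw [AlternatingMap.map_update_zero]; exact zero_mem _
      | add a b _ _ ha hb => rw [AlternatingMap.map_update_add]; exact add_mem ha hb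
      | smul c a _ ha => rw [AlternatingMap.map_update_smul]; exact Submodule.smul_mem _ c ha
    · exact ih z fun i hi => absurd i.2 (by omega)

section Plucker

variable {k : ℕ} [(wedge E k).IsQuasicoherent]

variable (U : X.affineOpens) (v : Fin k → Γ(E, U.1))

/-- The sections of a chart. -/
abbrev JG : Fin k → MS E U := fun c => nu U E (v c)

/-- The section of the chart of the projective bundle. -/
abbrev JP : Fin 1 → MS (wedge E k) U := fun _ => nu U (wedge E k) (eta E k U.1 (exteriorPower.ιMulti _ k v))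

variable {T : Over X} (a : T ⟶ S0 U) {Q : T.left.Modules} (q : EP E T ⟶ Q)

theorem spanAt_pl_iff (hQ : FlatMod.IsFinLocFreeOfRank k Q) (t : T.left) :
    SpanAt (jsec U a (JP U v) (pl (k := k) q)) t ↔ SpanAt (jsec U a (JG U v) q) t := by
  have ht := hom_mem_of_hom U a t
  unfold SpanAt
  rw [funext fun c : Fin 1 => (germ_jsec U a (fun _ => eta E k U.1 (exteriorPower.ιMulti _ k v)) (pl q) t ht c).trans
    (pl_gS q t ht v), funext fun c => germ_jsec U a v q t ht c, Set.range_const]
  exact span_gw_iff hQ t _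

theorem pl_update [DecidableEq (Fin k)] (l : MS E U → Fin k → Γ(T.left, ⊤)) (hl : IsCoeff U a (JG U v) q l)
    (c : Fin k) (m : Γ(E, U.1)) :
    (pl q).app ⊤ (secT a (nu U (wedge E k) (eta E k U.1 (exteriorPower.ιMulti _ k (Function.update v c m))))) =
      l (nu U E m) c • jsec U a (JP U v) (pl q) 0 := by
  refine section_ext fun t _ => ?_
  have ht := hom_mem_of_hom U a t
  rw [← stalkLin_germ, germ_secT_nu U a t ht, pl_gS, WeakAss.germ_smul,
    germ_jsec U a (fun _ => eta E k U.1 (exteriorPower.ιMulti _ k v)) (pl q) t ht 0, pl_gS]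
  let x : Fin k → Q.presheaf.stalk t := fun i => stalkLin q t (gS E T t ht (v i))
  have hm : stalkLin q t (gS E T t ht m) =
      ∑ d, T.left.presheaf.germ ⊤ t trivial (l (nu U E m) d) • x d := by
    rw [← germ_secT_nu U a t ht, stalkLin_germ, hl (nu U E m), map_sum]
    exact Finset.sum_congr rfl fun d _ => by rw [WeakAss.germ_smul, germ_jsec U a v q t ht d]
  have hu : (fun i => stalkLin q t (gS E T t ht (Function.update v c m i))) =
      Function.update x c (stalkLin q t (gS E T t ht m)) := funext fun i => by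
    rcases eq_or_ne i c with rfl | h
    · rw [Function.update_self, Function.update_self]
    · rw [Function.update_of_ne h, Function.update_of_ne h]
  rw [hu, hm]
  show gwAlt t _ = _
  rw [AlternatingMap.map_update_sum, Finset.sum_eq_single c]
  · rw [AlternatingMap.map_update_smul, Function.update_eq_self]
    rfl
  · intro d _ hd
    rw [AlternatingMap.map_update_smul,
      (gwAlt (Q := Q) t).map_eq_zero_of_eq (Function.update x c (x d)) (i := c) (j := d)
        (by rw [Function.update_self, Function.update_of_ne hd]) hd.symm, smul_zero]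
  · exact fun h => absurd (Finset.mem_univ c) h

theorem exists_chart_mor : ∃ f : N U (JG U v) ⟶ N U (JP U v),
    omap f (nN U (JP U v)) = plPt (nN U (JG U v)) ∧ IsClosedImmersion f.left := by
  classical
  haveI := epi_qN U (JG U v)
  let qG := qN U (JG U v)
  let aG := aN U (JG U v)
  have hQ := (good_qN U (JG U v)).1
  have hG : Good U aG (JP U v) (pl qG) :=
    ⟨isFinLocFreeOfRank_wedge hQ, fun t => (spanAt_pl_iff U v aG qG hQ t).2 ((good_qN U (JG U v)).2 t)⟩
  obtain ⟨f, hf⟩ := exists_classify U (JP U v) aG (pl qG) (epi_pl qG inferInstance hQ) hG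
  haveI := epi_qN U (JP U v)
  have hf' : omap f (nN U (JP U v)) = mkQ (pl qG) (epi_pl qG inferInstance hQ) hG.1 := hf
  rw [nN, omap_mkQ] at hf'
  obtain ⟨e, he⟩ := mkQ_eq_iff.1 hf'
  have hco := (good_bc_qN U (JP U v) f aG).2.comp_iso e
  rw [he] at hco
  have hval : ∀ (c : Fin k) (m : Γ(E, U.1)), f.left.appTop (lU U (JP U v)
      (nu U (wedge E k) (eta E k U.1 (exteriorPower.ιMulti _ k (Function.update v c m)))) 0) =
        lU U (JG U v) (nu U E m) c := fun c m => by
    refine congrFun (hG.eq_of_sum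
      (c := fun i => f.left.appTop (lU U (JP U v)
        (nu U (wedge E k) (eta E k U.1 (exteriorPower.ιMulti _ k (Function.update v c m)))) i))
      (c' := fun _ => lU U (JG U v) (nu U E m) c) ?_) 0
    rw [← hco, Fin.sum_univ_one]
    exact pl_update U v aG qG _ (isCoeff_qN U (JG U v)) c m
  refine ⟨f, hf.trans ?_, ?_⟩
  · rw [nN, plPt_mkQ]
  haveI : IsAffine (N U (JG U v)).left := inferInstanceAs (IsAffine (Spec (CommRingCat.of (B U (JG U v)))))
  haveI : IsAffine (N U (JP U v)).left := inferInstanceAs (IsAffine (Spec (CommRingCat.of (B U (JP U v)))))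
  refine IsClosedImmersion.of_surjective_of_isAffine f.left fun y => ?_
  let S : Subring Γ((N U (JG U v)).left, ⊤) := f.left.appTop.hom.range
  suffices ∀ b : B U (JG U v), ιB U (JG U v) b ∈ S by
    have hy := this ((Scheme.ΓSpecIso (CommRingCat.of (B U (JG U v)))).hom y)
    have e : ιB U (JG U v) ((Scheme.ΓSpecIso (CommRingCat.of (B U (JG U v)))).hom y) = y :=
      ConcreteCategory.congr_hom (Scheme.ΓSpecIso (CommRingCat.of (B U (JG U v)))).hom_inv_id y
    rw [e] at hy
    exact hy
  intro b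
  obtain ⟨p, rfl⟩ := Ideal.Quotient.mk_surjective b
  induction p using MvPolynomial.induction_on with
  | C x =>
    refine ⟨(aN U (JP U v)).left.appTop x, ?_⟩
    show f.left.appTop _ = _
    rw [show ιB U (JG U v) (Ideal.Quotient.mk _ (MvPolynomial.C x)) = aG.left.appTop x from (aN_appTop U _ x).symm]
    exact congrArg (fun a : N U (JG U v) ⟶ S0 U => a.left.appTop x) (Subsingleton.elim (f ≫ aN U (JP U v)) aG)
  | add p p' hp hp' => rw [map_add, map_add]; exact add_mem hp hp'
  | mul_X p x hp =>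
    rw [map_mul, map_mul]
    refine mul_mem hp ?_
    obtain ⟨m, c⟩ := x
    obtain ⟨m, rfl⟩ := nu_surjective U E m
    exact ⟨_, hval c m⟩

end Plucker

theorem exists_mem_loc_JP {k : ℕ} [(wedge E k).IsQuasicoherent] (T : Over X) (x : Obj (wedge E k) 1 T)
    (p : T.left) : ∃ (U : X.affineOpens) (v : Fin k → Γ(E, U.1)), p ∈ loc U (JP U v) T x := by
  classical
  obtain ⟨U₀, hU, hpU, -⟩ := exists_isAffineOpen_mem_and_subset (x := T.hom p) (U := ⊤) trivial
  let U : X.affineOpens := ⟨U₀, hU⟩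
  let T₁ := opn T (W0 U T)
  let a := aW U T
  let p₁ : T₁.left := ⟨p, hpU⟩
  suffices ∃ v, p₁ ∈ loc U (JP U v) T₁ (omap (opnι T (W0 U T)) x) by
    obtain ⟨v, hv⟩ := this
    rw [loc_omap] at hv
    exact ⟨U, v, hv⟩
  obtain ⟨Q, q, hq, hQ, hx⟩ := exists_eq_mkQ (omap (opnι T (W0 U T)) x)
  haveI := hq
  have ht : T₁.hom p₁ ∈ U.1 := hom_mem_of_hom U a p₁
  let S := Set.range fun v : Fin k → Γ(E, U.1) =>
    stalkLin q p₁ (gS (wedge E k) T₁ p₁ ht (eta E k U.1 (exteriorPower.ιMulti _ k v)))
  have hgen : Submodule.span (X.presheaf.stalk (T₁.hom p₁))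
      (Set.range fun m : Γ(E, U.1) => E.presheaf.germ U.1 (T₁.hom p₁) ht m) = ⊤ := by
    refine eq_top_iff.2 fun w _ => ?_
    obtain ⟨c, z, hc, hz⟩ := WeakAss.exists_smul_eq_germ (F := E) U.2 (x := T₁.hom p₁) ht w
    have hu : IsUnit (X.presheaf.germ U.1 (T₁.hom p₁) ht c) :=
      (Scheme.mem_basicOpen _ c (T₁.hom p₁) ht).mp (WeakAss.notMem_primeAt_iff.mp hc)
    rw [show w = ((hu.unit⁻¹ : _ˣ) : X.presheaf.stalk (T₁.hom p₁)) • E.presheaf.germ U.1 (T₁.hom p₁) ht z by
      rw [← hz, smul_smul, IsUnit.val_inv_mul, one_smul]]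
    exact Submodule.smul_mem _ _ (Submodule.subset_span ⟨z, rfl⟩)
  have hS : Submodule.span (T₁.left.presheaf.stalk p₁) S = ⊤ := by
    refine eq_top_iff.2 fun w hw => ?_
    clear hw
    obtain ⟨w, rfl⟩ := stalkLin_surjective q p₁ w
    have hw := (span_range_uS T₁.hom (wedge E k) p₁).ge (Submodule.mem_top (x := w))
    induction hw using Submodule.span_induction with
    | mem w hw =>
      obtain ⟨z, rfl⟩ := hw
      have hz := (span_range_gw (Q := E) (k := k) (T₁.hom p₁)).ge (Submodule.mem_top (x := z))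
      induction hz using Submodule.span_induction with
      | mem z hz =>
        obtain ⟨y, rfl⟩ := hz
        let P : Submodule (X.presheaf.stalk (T₁.hom p₁)) ((wedge E k).presheaf.stalk (T₁.hom p₁)) :=
          { carrier := {z | stalkLin q p₁ (uS T₁.hom (wedge E k) p₁ z) ∈ Submodule.span (T₁.left.presheaf.stalk p₁) S}
            add_mem' := fun {a b} ha hb => by
              rw [Set.mem_ofPred_eq, map_add, map_add]; exact add_mem ha hb
            zero_mem' := by
              rw [Set.mem_ofPred_eq, map_zero, map_zero]; exact zero_mem _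
            smul_mem' := fun c a ha => by
              rw [Set.mem_ofPred_eq, uS_smul, map_smul]; exact Submodule.smul_mem _ _ ha }
        refine mem_of_span (gwAlt (Q := E) (k := k) (T₁.hom p₁)) _ hgen P (fun z hz => ?_) y
        choose m hm using hz
        obtain rfl : (fun i => E.presheaf.germ U.1 (T₁.hom p₁) ht (m i)) = z := funext hm
        show stalkLin q p₁ (uS T₁.hom (wedge E k) p₁ (gw (T₁.hom p₁) fun i => E.presheaf.germ U.1 (T₁.hom p₁) ht (m i))) ∈
          Submodule.span (T₁.left.presheaf.stalk p₁) S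
        rw [gw_germ]
        exact Submodule.subset_span ⟨m, rfl⟩
      | zero => rw [map_zero, map_zero]; exact zero_mem _
      | add a b _ _ ha hb => rw [map_add, map_add]; exact add_mem ha hb
      | smul c a _ ha => rw [uS_smul, map_smul]; exact Submodule.smul_mem _ _ ha
    | zero => rw [map_zero]; exact zero_mem _
    | add a b _ _ ha hb => rw [map_add]; exact add_mem ha hb
    | smul c a _ ha => rw [map_smul]; exact Submodule.smul_mem _ _ ha
  obtain ⟨b⟩ := nonempty_stalk_basis hQ p₁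
  obtain ⟨w, ⟨v, rfl⟩, hw⟩ : ∃ w ∈ S, IsUnit (b.repr w 0) := by
    by_contra hne
    push Not at hne
    have hle : Submodule.span (T₁.left.presheaf.stalk p₁) S ≤
        Submodule.comap (b.coord 0) (IsLocalRing.maximalIdeal (T₁.left.presheaf.stalk p₁)) :=
      Submodule.span_le.2 fun w hw => (IsLocalRing.mem_maximalIdeal _).2 (hne w hw)
    have h1 := hle (hS.ge (Submodule.mem_top (x := b 0)))
    rw [Submodule.mem_comap, Module.Basis.coord_apply, b.repr_self, Finsupp.single_eq_same] at h1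
    exact (IsLocalRing.mem_maximalIdeal _).1 h1 isUnit_one
  refine ⟨v, ?_⟩
  rw [hx, mem_loc_iff_spanAt U _ a]
  unfold SpanAt
  rw [funext fun c : Fin 1 => germ_jsec U a (fun _ => eta E k U.1 (exteriorPower.ιMulti _ k v)) q p₁ ht c,
    Set.range_const, eq_top_iff, ← b.span_eq, Submodule.span_le]
  rintro _ ⟨i, rfl⟩
  obtain rfl : i = 0 := Subsingleton.elim _ _
  refine Submodule.mem_span_singleton.2 ⟨((hw.unit⁻¹ : _ˣ) : T₁.left.presheaf.stalk p₁), b.repr.injective ?_⟩
  refine Finsupp.ext fun i => ?_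
  obtain rfl : i = 0 := Subsingleton.elim _ _
  rw [map_smul, Finsupp.smul_apply, smul_eq_mul, IsUnit.val_inv_mul, b.repr_self, Finsupp.single_eq_same]

theorem rep_of_isGrass {P : Scheme.{u}} {π : P ⟶ X} {Q : P.Modules} {s : (Scheme.Modules.pullback π).obj E ⟶ Q}
    (h : Grass.IsGrass π E r Q s) (T : Over X) (x : Obj E r T) :
    ∃! a : T ⟶ Over.mk π, omap a (mkQ (T := Over.mk π) s h.epi h.rank) = x := by
  obtain ⟨L, q, hq, hL, rfl⟩ := exists_eq_mkQ x
  haveI := h.epi
  obtain ⟨g, ⟨hg, e, he⟩, hu⟩ := h.univ T.left T.hom L hL q hq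
  have key : ∀ (g : T.left ⟶ P) (hg : g ≫ π = T.hom),
      omap (Over.homMk g hg : T ⟶ Over.mk π) (mkQ (T := Over.mk π) s h.epi h.rank) = mkQ q hq hL ↔
        ∃ e : (Scheme.Modules.pullback g).obj Q ≅ L, Grass.quotBC hg s ≫ e.hom = q := fun g hg => by
    rw [omap_mkQ]
    exact mkQ_eq_iff
  refine ⟨Over.homMk g hg, (key g hg).2 ⟨e, he⟩, fun a ha => Over.OverMorphism.ext ?_⟩
  exact hu a.left ⟨Over.w a, (key a.left (Over.w a)).1 ha⟩

theorem exists_closedImmersion {k : ℕ} [(wedge E k).IsQuasicoherent] {M : Over X} {m : Obj E k M}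
    (hm : ∀ (T : Over X) (x : Obj E k T), ∃! a : T ⟶ M, omap a m = x)
    {P : Over X} {mP : Obj (wedge E k) 1 P}
    (hP : ∀ (T : Over X) (x : Obj (wedge E k) 1 T), ∃! a : T ⟶ P, omap a mP = x) :
    ∃ c : M ⟶ P, IsClosedImmersion c.left := by
  obtain ⟨c, hc, -⟩ := hP M (plPt m)
  let R : (Σ U : X.affineOpens, (Fin k → Γ(E, U.1))) → P.left.Opens := fun i => loc i.1 (JP i.1 i.2) P mP
  have hR : ⨆ i, R i = ⊤ := eq_top_iff.2 fun p _ => by
    obtain ⟨U, v, h⟩ := exists_mem_loc_JP P mP p
    exact Opens.mem_iSup.2 ⟨⟨U, v⟩, h⟩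
  refine ⟨c, (IsZariskiLocalAtTarget.iff_of_iSup_eq_top (P := @IsClosedImmersion) R hR).2 fun ⟨U, v⟩ => ?_⟩
  obtain ⟨bG, hbG, hIG, hrG⟩ := exists_chart_hom U (JG U v) hm
  obtain ⟨bP, hbP, hIP, hrP⟩ := exists_chart_hom U (JP U v) hP
  obtain ⟨f, hf, hfc⟩ := exists_chart_mor U v
  have hw : bG ≫ c = f ≫ bP := (hP _ (plPt (nN U (JG U v)))).unique
    (by rw [omap_comp, hc, plPt_omap, hbG]) (by rw [omap_comp, hbP, hf])
  have hloc : loc U (JP U v) M (plPt m) = loc U (JG U v) M m := by
    ext p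
    by_cases hp : p ∈ W0 U M
    · let T₁ := opn M (W0 U M)
      have e1 := congrArg (fun O : T₁.left.Opens => (⟨p, hp⟩ : T₁.left) ∈ O)
        (loc_omap U (JP U v) (opnι M (W0 U M)) (plPt m))
      have e2 := congrArg (fun O : T₁.left.Opens => (⟨p, hp⟩ : T₁.left) ∈ O)
        (loc_omap U (JG U v) (opnι M (W0 U M)) m)
      obtain ⟨Q, q, hq, hQ, hx⟩ := exists_eq_mkQ (omap (opnι M (W0 U M)) m)
      haveI := hq
      rw [plPt_omap, hx, plPt_mkQ] at e1
      rw [hx] at e2
      exact (e1.symm.to_iff.trans (((mem_loc_iff_spanAt U (JP U v) (aW U M) _ _ _ _).trans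
        (spanAt_pl_iff U v (aW U M) q hQ _)).trans (mem_loc_iff_spanAt U (JG U v) (aW U M) _ _ _ _).symm)).trans
          e2.to_iff
    · exact ⟨fun h => (hp (loc_le U _ M _ h)).elim, fun h => (hp (loc_le U _ M _ h)).elim⟩
  have hpre : c.left ⁻¹ᵁ bP.left.opensRange = bG.left.opensRange := by
    rw [hrP, hrG, ← loc_omap, hc, hloc]
  haveI := hIG
  haveI := hIP
  have H := IsOpenImmersion.isPullback f.left bG.left bP.left c.left
    (congrArg CategoryTheory.Over.Hom.left hw) hpre
  show IsClosedImmersion (c.left ∣_ R ⟨U, v⟩)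
  rw [show R ⟨U, v⟩ = bP.left.opensRange from hrP.symm,
    MorphismProperty.arrow_mk_iso_iff @IsClosedImmersion (morphismRestrictOpensRange c.left bP.left),
    ← H.flip.isoPullback_inv_snd]
  infer_instance

end GrothLib.GrassSch26
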