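import Groth.Agent.Lib.GrassSch26.Transport
import Groth.Agent.Lib.OX.OneDegLocus

/-!
# The presheaf of rank `r` quotients of a fixed module, and its sheaf property
-/

set_option autoImplicit false
set_option linter.style.haveILetI false
set_option backward.isDefEq.respectTransparency false
universe u

noncomputable section

open CategoryTheory CategoryTheory.Limits AlgebraicGeometry Opposite TopologicalSpace
open GrothLib.QCoh (stalkLin stalkLin_comp stalkLin_germ stalkLin_injective mono_of_app_injective)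
open GrothLib.QuotTan26 GrothLib.GrassCat26 GrothLib.RepLocal

namespace GrothLib.GrassSch26

section Ker

variable {Y : Scheme.{u}} {M Q Q' : Y.Modules}

theorem exists_coker_iso (q : M ⟶ Q) [Epi q] :
    ∃ e : cokernel (kernelSubobject q).arrow ≅ Q, cokernel.π (kernelSubobject q).arrow ≫ e.hom = q := by
  have hex : (ShortComplex.mk _ q (kernelSubobject_arrow_comp q)).Exact := by
    have h := ShortComplex.exact_kernel q
    refine (ShortComplex.exact_iff_of_iso (ShortComplex.isoMk (S₁ := ShortComplex.mk _ q (kernelSubobject_arrow_comp q))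
      (S₂ := ShortComplex.mk _ q (kernel.condition q)) (kernelSubobjectIso q) (Iso.refl _) (Iso.refl _) ?_ ?_)).2 h
    · simp
    · simp
  haveI : Epi (ShortComplex.mk _ q (kernelSubobject_arrow_comp q)).g := ‹Epi q›
  exact ⟨(cokernelIsCokernel _).coconePointUniqueUpToIso hex.gIsCokernel,
    IsColimit.comp_coconePointUniqueUpToIso_hom (cokernelIsCokernel _) hex.gIsCokernel WalkingParallelPair.one⟩

theorem mem_sK_ker_iff (q : M ⟶ Q) [Epi q] (x : Y) (v : M.presheaf.stalk x) :
    v ∈ sK (kernelSubobject q) x ↔ stalkLin q x v = 0 := by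
  obtain ⟨e, he⟩ := exists_coker_iso q
  conv_rhs => rw [← he, stalkLin_comp]
  rw [← stalkLin_π_eq_zero_iff]
  exact ⟨fun h => by rw [h, map_zero], fun h => (bijective_stalkLin e.hom x).1 (h.trans (map_zero _).symm)⟩

theorem ker_comp_mono (q : M ⟶ Q) (i : Q ⟶ Q') [Mono i] : kernelSubobject (q ≫ i) = kernelSubobject q :=
  kernelSubobject_comp_mono q i

theorem exists_iso_of_ker_eq (q : M ⟶ Q) (q' : M ⟶ Q') [Epi q] [Epi q']
    (h : kernelSubobject q = kernelSubobject q') : ∃ e : Q ≅ Q', q ≫ e.hom = q' := by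
  obtain ⟨e, he⟩ := exists_coker_iso q
  obtain ⟨e', he'⟩ := exists_coker_iso q'
  have key : ∀ (K K' : Subobject M) (_ : K = K'), ∃ i : cokernel K.arrow ≅ cokernel K'.arrow,
      cokernel.π K.arrow ≫ i.hom = cokernel.π K'.arrow := by
    rintro K _ rfl
    exact ⟨Iso.refl _, Category.comp_id _⟩
  obtain ⟨i, hi⟩ := key _ _ h
  refine ⟨e.symm ≪≫ i ≪≫ e', ?_⟩
  have h1 : q ≫ e.inv = cokernel.π (kernelSubobject q).arrow := (Iso.comp_inv_eq e).2 he.symm
  simp only [Iso.trans_hom, Iso.symm_hom]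
  rw [reassoc_of% h1, reassoc_of% hi, he']

theorem ker_π (K : Subobject M) : kernelSubobject (cokernel.π K.arrow) = K :=
  eq_of_sK_eq fun x => Submodule.ext fun v => by rw [mem_sK_ker_iff, stalkLin_π_eq_zero_iff]

end Ker

variable {X : Scheme.{u}} (E : X.Modules) (r : ℕ)

/-- Submodules with locally free quotient of rank `r`. -/
abbrev Obj (T : Over X) : Type (u + 1) :=
  {K : Subobject (EP E T) // FlatMod.IsFinLocFreeOfRank r (cokernel K.arrow)}

variable {E r}

/-- The point given by a quotient map. -/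
def mkQ {T : Over X} {Q : T.left.Modules} (q : EP E T ⟶ Q) (hq : Epi q) (hQ : FlatMod.IsFinLocFreeOfRank r Q) :
    Obj E r T :=
  ⟨kernelSubobject q, by
    haveI := hq
    obtain ⟨e, -⟩ := exists_coker_iso q
    exact GrassCat26.isFinLocFreeOfRank_of_iso e.symm hQ⟩

theorem mkQ_eq_iff {T : Over X} {Q Q' : T.left.Modules} {q : EP E T ⟶ Q} {q' : EP E T ⟶ Q'} {hq : Epi q}
    {hq' : Epi q'} {hQ : FlatMod.IsFinLocFreeOfRank r Q} {hQ' : FlatMod.IsFinLocFreeOfRank r Q'} :
    mkQ q hq hQ = mkQ q' hq' hQ' ↔ ∃ e : Q ≅ Q', q ≫ e.hom = q' := by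
  refine ⟨fun h => ?_, fun ⟨e, he⟩ => Subtype.ext ?_⟩
  · haveI := hq
    haveI := hq'
    exact exists_iso_of_ker_eq q q' (congrArg Subtype.val h)
  · show kernelSubobject q = kernelSubobject q'
    rw [← he, ker_comp_mono]

theorem eq_mkQ {T : Over X} (x : Obj E r T) : x = mkQ (cokernel.π x.1.arrow) inferInstance x.2 :=
  Subtype.ext (ker_π x.1).symm

theorem exists_eq_mkQ {T : Over X} (x : Obj E r T) :
    ∃ (Q : T.left.Modules) (q : EP E T ⟶ Q) (hq : Epi q) (hQ : FlatMod.IsFinLocFreeOfRank r Q),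
      x = mkQ q hq hQ :=
  ⟨_, _, _, x.2, eq_mkQ x⟩

/-- Pullback of points. -/
def omap {T T' : Over X} (g : T' ⟶ T) (x : Obj E r T) : Obj E r T' :=
  mkQ (bc g (cokernel.π x.1.arrow)) inferInstance (OX.isFinLocFreeOfRank_pullback g.left x.2)

theorem omap_mkQ {T T' : Over X} (g : T' ⟶ T) {Q : T.left.Modules} (q : EP E T ⟶ Q) (hq : Epi q)
    (hQ : FlatMod.IsFinLocFreeOfRank r Q) :
    omap g (mkQ q hq hQ) = mkQ (bc g q) (by haveI := hq; infer_instance) (OX.isFinLocFreeOfRank_pullback g.left hQ) := by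
  haveI := hq
  obtain ⟨e, he⟩ := exists_coker_iso q
  refine mkQ_eq_iff.2 ⟨(Scheme.Modules.pullback g.left).mapIso e, ?_⟩
  rw [Functor.mapIso_hom, ← bc_comp_right]
  exact congrArg (bc g) he

theorem omap_comp {T T' T'' : Over X} (g : T' ⟶ T) (f : T'' ⟶ T') (x : Obj E r T) :
    omap (f ≫ g) x = omap f (omap g x) := by
  rw [show omap g x = mkQ _ _ _ from rfl, omap_mkQ]
  exact mkQ_eq_iff.2 ⟨((Scheme.Modules.pullbackComp f.left g.left).symm.app _), bc_bc g f _⟩

theorem th_congr {T T' : Over X} {g g' : T' ⟶ T} (h : g = g') (t : T'.left)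
    (v : (EP E T).presheaf.stalk (g.left t)) (v' : (EP E T).presheaf.stalk (g'.left t)) (hv : HEq v v') :
    th g t v = th g' t v' := by
  subst h
  rw [eq_of_heq hv]

theorem omap_id {T : Over X} (x : Obj E r T) : omap (𝟙 T) x = x := by
  refine Subtype.ext (eq_of_sK_eq fun t => Submodule.ext fun v => ?_)
  obtain ⟨v, rfl⟩ := (bijective_th (E := E) (𝟙 T) t).2 v
  refine (mem_sK_ker_iff (bc (𝟙 T) (cokernel.π x.1.arrow)) t _).trans ?_
  rw [stalkLin_th_eq_zero_iff, stalkLin_π_eq_zero_iff]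
  obtain ⟨U, hU, s, rfl⟩ := TopCat.Presheaf.exists_germ_eq (EP E T).presheaf v
  suffices h : th (𝟙 T) t ((EP E T).presheaf.germ U ((𝟙 T : T ⟶ T).left t) hU s) =
      (EP E T).presheaf.germ U t hU s by rw [h]; rfl
  have h2 := th_comp (E := E) (𝟙 T) (𝟙 T) t ((EP E T).presheaf.germ U t hU s)
  exact (bijective_th (E := E) (𝟙 T) t).1 (h2.trans (th_congr (Category.comp_id (𝟙 T)) t _ _ HEq.rfl))

variable (E r) in
/-- The presheaf of rank `r` quotients. -/
def psh : Psh.{u + 1} X where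
  obj := Obj E r
  map := omap
  map_id _ x := omap_id x
  map_comp g f x := omap_comp g f x

theorem sK_omap_opn {T : Over X} (V : T.left.Opens) (x : Obj E r T) (p : (opn T V).left)
    (v : (EP E T).presheaf.stalk ((opnι T V).left p)) :
    th (opnι T V) p v ∈ sK (omap (opnι T V) x).1 p ↔ v ∈ sK x.1 ((opnι T V).left p) := by
  haveI : IsOpenImmersion (opnι T V).left := inferInstanceAs (IsOpenImmersion V.ι)
  refine (mem_sK_ker_iff _ p _).trans ?_
  rw [stalkLin_th_eq_zero_iff, stalkLin_π_eq_zero_iff]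

theorem obj_ext {T : Over X} {κ : Type u} (V : κ → T.left.Opens) (hV : IsOpenCover V) {x y : Obj E r T}
    (h : ∀ i, omap (opnι T (V i)) x = omap (opnι T (V i)) y) : x = y := by
  refine Subtype.ext (eq_of_sK_eq fun t => Submodule.ext fun v => ?_)
  obtain ⟨i, hi⟩ := hV.exists_mem t
  have h1 := sK_omap_opn (V i) x ⟨t, hi⟩ v
  rw [h i] at h1
  exact h1.symm.trans (sK_omap_opn (V i) y ⟨t, hi⟩ v)

theorem isOpenImmersion_opnMap (T : Over X) {V W : T.left.Opens} (h : V ≤ W) :
    IsOpenImmersion (opnMap T h).left :=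
  inferInstanceAs (IsOpenImmersion (T.left.homOfLE h))

section Glue

variable {T : Over X} {κ : Type u} {V : κ → T.left.Opens} (x : ∀ i, Obj E r (opn T (V i)))
  (hx : ∀ i j, omap (opnMap T (inf_le_left (a := V i) (b := V j))) (x i) = omap (opnMap T inf_le_right) (x j))

include hx in
theorem mem_indep (i j : κ) (t : T.left) (hi : t ∈ V i) (hj : t ∈ V j) (v : (EP E T).presheaf.stalk t) :
    th (opnι T (V i)) ⟨t, hi⟩ v ∈ sK (x i).1 ⟨t, hi⟩ ↔ th (opnι T (V j)) ⟨t, hj⟩ v ∈ sK (x j).1 ⟨t, hj⟩ := by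
  have key : ∀ {T₁ T₂ : Over X} (g : T₂ ⟶ T₁) (_ : IsOpenImmersion g.left) (a : T₁ ⟶ T) (b : T₂ ⟶ T) (_ : g ≫ a = b)
      (y : Obj E r T₁) (p : T₂.left) (q : T₁.left) (_ : g.left p = q) (v : (EP E T).presheaf.stalk (b.left p))
      (w : (EP E T).presheaf.stalk (a.left q)) (_ : HEq v w),
      th b p v ∈ sK (omap g y).1 p ↔ th a q w ∈ sK y.1 q := by
    intro T₁ T₂ g hg a b hb y p q hq v w hvw
    subst hb hq
    obtain rfl := eq_of_heq hvw
    refine (iff_of_eq (congrArg (· ∈ sK (omap g y).1 p) (th_comp a g p v).symm)).trans ?_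
    refine (mem_sK_ker_iff _ p _).trans ?_
    rw [stalkLin_th_eq_zero_iff, stalkLin_π_eq_zero_iff]
  have hpt : ∀ {W W' : T.left.Opens} (h : W ≤ W') (p : (opn T W).left) (ht : p.1 ∈ W'),
      (opnMap T h).left p = ⟨p.1, ht⟩ := fun {W W'} h p ht =>
    Subtype.ext (congrArg (fun f : (W : Scheme.{u}) ⟶ T.left => f p) (T.left.homOfLE_ι h))
  have h1 := key (opnMap T (inf_le_left (a := V i) (b := V j))) (isOpenImmersion_opnMap T _) (opnι T (V i))
    (opnι T (V i ⊓ V j)) (opnMap_opnι T _) (x i) ⟨t, hi, hj⟩ ⟨t, hi⟩ (hpt _ _ _) v v HEq.rfl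
  have h2 := key (opnMap T (inf_le_right (a := V i) (b := V j))) (isOpenImmersion_opnMap T _) (opnι T (V j))
    (opnι T (V i ⊓ V j)) (opnMap_opnι T _) (x j) ⟨t, hi, hj⟩ ⟨t, hj⟩ (hpt _ _ _) v v HEq.rfl
  rw [hx i j] at h1
  exact h1.symm.trans h2

variable (V) in
/-- The glued family of submodules of stalks. -/
def Mem (t : T.left) (v : (EP E T).presheaf.stalk t) : Prop :=
  ∀ (i : κ) (hi : t ∈ V i), th (opnι T (V i)) ⟨t, hi⟩ v ∈ sK (x i).1 ⟨t, hi⟩

/-- The glued submodule by sections. -/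
def glueData : QCoh.SubData (EP E T) where
  sec U :=
    { carrier := {s | ∀ (t : T.left) (ht : t ∈ U), Mem V x t ((EP E T).presheaf.germ U t ht s)}
      add_mem' := fun {a b} ha hb t ht i hi => by
        rw [map_add, map_add]
        exact add_mem (ha t ht i hi) (hb t ht i hi)
      zero_mem' := fun t ht i hi => by
        rw [map_zero, map_zero]
        exact zero_mem _
      smul_mem' := fun c a ha t ht i hi => by
        rw [WeakAss.germ_smul]
        erw [th_smul]
        exact Submodule.smul_mem _ _ (ha t ht i hi) }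
  map_mem {U W} i s hs t ht := by
    rw [GrothLib.QCoh.germ_map]
    exact hs t (i.le ht)
  locality {U} s h t ht := by
    obtain ⟨W, i, hW, hs⟩ := h t ht
    have := hs t hW
    rwa [GrothLib.QCoh.germ_map] at this

/-- The glued submodule. -/
def glueSub : Subobject (EP E T) :=
  haveI : Mono (glueData x).ι := mono_of_app_injective _ (glueData x).ι_app_injective
  Subobject.mk (glueData x).ι

include hx in
theorem sK_glueSub (i : κ) (t : T.left) (hi : t ∈ V i) (v : (EP E T).presheaf.stalk t) :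
    v ∈ sK (glueSub x) t ↔ th (opnι T (V i)) ⟨t, hi⟩ v ∈ sK (x i).1 ⟨t, hi⟩ := by
  haveI : Mono (glueData x).ι := mono_of_app_injective _ (glueData x).ι_app_injective
  haveI : IsOpenImmersion (opnι T (V i)).left := inferInstanceAs (IsOpenImmersion (V i).ι)
  rw [glueSub, show sK (Subobject.mk (glueData x).ι) t = LinearMap.range (stalkLin (glueData x).ι t) by
    rw [← imageSubobject_mono (glueData x).ι, sK_imageSubobject]]
  constructor
  · rintro ⟨w, rfl⟩
    obtain ⟨U, hU, s, rfl⟩ := TopCat.Presheaf.exists_germ_eq (glueData x).obj.presheaf w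
    rw [stalkLin_germ]
    exact (glueData x).ι_app_mem s t hU i hi
  · rintro ⟨w, hw⟩
    obtain ⟨U, hU, s, rfl⟩ := TopCat.Presheaf.exists_germ_eq (EP E T).presheaf v
    obtain ⟨O, hO, o, rfl⟩ := TopCat.Presheaf.exists_germ_eq (Subobject.underlying.obj (x i).1).presheaf w
    rw [stalkLin_germ] at hw
    erw [← germ_sec (opnι T (V i)) U s ⟨t, hi⟩ hU] at hw
    obtain ⟨O', hO', i₁, i₂, e⟩ := TopCat.Presheaf.germ_eq (EP E (opn T (V i))).presheaf _ hO _ _ _ hw
    let B : T.left.Opens := U ⊓ (opnι T (V i)).left ''ᵁ O'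
    have hB : t ∈ B := ⟨hU, ⟨⟨t, hi⟩, hO', rfl⟩⟩
    have hmem : (EP E T).presheaf.map (homOfLE (inf_le_left : B ≤ U)).op s ∈ (glueData x).sec B := by
      rintro t' ⟨ht'U, q, hq, rfl⟩ j hj
      rw [GrothLib.QCoh.germ_map]
      refine (mem_indep x hx i j _ q.2 hj _).1 ?_
      show th (opnι T (V i)) q _ ∈ sK (x i).1 q
      refine (congrArg (· ∈ sK (x i).1 q) (germ_sec (opnι T (V i)) U s q ht'U)).mp ?_
      refine (congrArg (· ∈ sK (x i).1 q) (Eq.trans ?_ (GrothLib.QCoh.germ_map _ i₂ hq _))).mp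
        (⟨(Subobject.underlying.obj (x i).1).presheaf.germ O q (i₁.le hq) o, rfl⟩ : stalkLin (x i).1.arrow q
          ((Subobject.underlying.obj (x i).1).presheaf.germ O q (i₁.le hq) o) ∈ sK (x i).1 q)
      rw [← e, stalkLin_germ]
      exact (GrothLib.QCoh.germ_map _ i₁ hq _).symm
    exact ⟨(glueData x).obj.presheaf.germ B t hB ((glueData x).lift _ hmem),
      (stalkLin_germ _ hB _).trans (GrothLib.QCoh.germ_map _ _ hB s)⟩

end Glue

theorem isSheaf_psh : IsSheaf (psh E r) := by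
  intro T κ V hV x hx
  have hker : ∀ i, kernelSubobject (bc (opnι T (V i)) (cokernel.π (glueSub x).arrow)) = (x i).1 := fun i => by
    haveI : IsOpenImmersion (opnι T (V i)).left := inferInstanceAs (IsOpenImmersion (V i).ι)
    refine eq_of_sK_eq fun p => Submodule.ext fun w => ?_
    obtain ⟨v, rfl⟩ := (bijective_th (E := E) (opnι T (V i)) p).2 w
    refine (mem_sK_ker_iff _ p _).trans ?_
    rw [stalkLin_th_eq_zero_iff, stalkLin_π_eq_zero_iff]
    exact sK_glueSub x hx i _ p.2 v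
  have hrk : FlatMod.IsFinLocFreeOfRank r (cokernel (glueSub x).arrow) :=
    OX.isFinLocFreeOfRank_of_local fun t => by
      obtain ⟨i, hi⟩ := hV.exists_mem t
      refine ⟨(V i).toScheme, (V i).ι, inferInstance, ⟨⟨t, hi⟩, rfl⟩, ?_⟩
      obtain ⟨e⟩ : Nonempty ((Scheme.Modules.pullback (opnι T (V i)).left).obj (cokernel (glueSub x).arrow) ≅
          cokernel (x i).1.arrow) := by
        obtain ⟨e, -⟩ := exists_coker_iso (bc (opnι T (V i)) (cokernel.π (glueSub x).arrow))
        rw [hker i] at e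
        exact ⟨e.symm⟩
      exact GrassCat26.isFinLocFreeOfRank_of_iso
        (((Scheme.Modules.restrictFunctorIsoPullback (V i).ι).app _).trans e).symm (x i).2
  refine ⟨⟨glueSub x, hrk⟩, fun i => Subtype.ext (hker i), fun y hy => ?_⟩
  exact obj_ext V hV fun i => (hy i).trans (Subtype.ext (hker i)).symm

end GrothLib.GrassSch26
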