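import Groth.Agent.Lib.QuotTan26.Stalk
import Groth.Agent.Lib.GrassCat26.Basic
import Groth.Agent.Lib.RepLocal.Sheaf
import Groth.Agent.Lib.QCoh.Killed
import Groth.Agent.Lib.QCoh.Sub
import Groth.Agent.Lib.WeakAss.Basic

/-!
# Transport of stalks and sections of pullbacks of a fixed module to schemes over the base
-/

set_option autoImplicit false
set_option linter.style.haveILetI false
set_option backward.isDefEq.respectTransparency false
universe u

noncomputable section

open CategoryTheory CategoryTheory.Limits AlgebraicGeometry Opposite TopologicalSpace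
open GrothLib.QCoh (stalkLin stalkLin_comp stalkLin_germ stalkLin_injective)
open GrothLib.QuotTan26 GrothLib.GrassCat26 GrothLib.RepLocal

namespace GrothLib.GrassSch26

variable {X : Scheme.{u}} (E : X.Modules)

/-- The pullback of the module to a scheme over the base. -/
abbrev EP (T : Over X) : T.left.Modules := (Scheme.Modules.pullback T.hom).obj E

variable {E} {T T' T'' : Over X}

/-- Base change of a map out of the pullback. -/
abbrev bc (g : T' ⟶ T) {Q : T.left.Modules} (q : EP E T ⟶ Q) :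
    EP E T' ⟶ (Scheme.Modules.pullback g.left).obj Q := Grass.quotBC (Over.w g) q

theorem bc_comp_right (g : T' ⟶ T) {Q Q₁ : T.left.Modules} (q : EP E T ⟶ Q) (k : Q ⟶ Q₁) :
    bc g (q ≫ k) = bc g q ≫ (Scheme.Modules.pullback g.left).map k :=
  quotBC_whisker (Over.w g) q k

theorem bc_eq_id (g : T' ⟶ T) {Q : T.left.Modules} (q : EP E T ⟶ Q) :
    bc g q = bc g (𝟙 (EP E T)) ≫ (Scheme.Modules.pullback g.left).map q := by
  rw [← bc_comp_right, Category.id_comp]

theorem bc_bc (g : T' ⟶ T) (f : T'' ⟶ T') {Q : T.left.Modules} (q : EP E T ⟶ Q) :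
    bc (f ≫ g) q ≫ (Scheme.Modules.pullbackComp f.left g.left).inv.app Q = bc f (bc g q) :=
  quotBC_comp q g.left f.left (Over.w g) (Over.w f) _

instance (g : T' ⟶ T) {Q : T.left.Modules} (q : EP E T ⟶ Q) [Epi q] : Epi (bc g q) := epi_quotBC _ q

instance (g : T' ⟶ T) : IsIso (bc g (𝟙 (EP E T))) := by
  dsimp only [bc, Grass.quotBC]
  infer_instance

theorem stalkLin_id_apply {Y : Scheme.{u}} {M : Y.Modules} (x : Y) (v : M.presheaf.stalk x) :
    stalkLin (𝟙 M) x v = v :=
  LinearMap.congr_fun (congrArg ModuleCat.Hom.hom ((OX.stalk x).map_id _)) v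

theorem stalkLin_iso_symm {Y : Scheme.{u}} {M N : Y.Modules} (e : M ≅ N) (x : Y) (v : M.presheaf.stalk x) :
    stalkLin e.inv x (stalkLin e.hom x v) = v := by
  rw [← stalkLin_comp, e.hom_inv_id]
  exact LinearMap.congr_fun (congrArg ModuleCat.Hom.hom ((OX.stalk x).map_id _)) v

theorem bijective_stalkLin {Y : Scheme.{u}} {M N : Y.Modules} (f : M ⟶ N) [IsIso f] (x : Y) :
    Function.Bijective (stalkLin f x) := by
  refine ⟨Function.LeftInverse.injective (g := stalkLin (inv f) x) (stalkLin_iso_symm (asIso f) x),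
    Function.RightInverse.surjective (g := stalkLin (inv f) x) fun v => ?_⟩
  exact stalkLin_iso_symm (asIso f).symm x v

/-- Transport of stalks along a morphism over the base. -/
def th (g : T' ⟶ T) (t : T'.left) : (EP E T).presheaf.stalk (g.left t) →+ (EP E T').presheaf.stalk t :=
  ((stalkLin (inv (bc g (𝟙 (EP E T)))) t).toAddMonoidHom).comp (uS g.left (EP E T) t)

theorem th_smul (g : T' ⟶ T) (t : T'.left) (r : T.left.presheaf.stalk (g.left t))
    (v : (EP E T).presheaf.stalk (g.left t)) :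
    th g t (r • v) = (g.left.stalkMap t).hom r • th g t v := by
  show stalkLin _ t (uS g.left _ t (r • v)) = _
  rw [uS_smul, map_smul]
  rfl

theorem bc_th (g : T' ⟶ T) {Q : T.left.Modules} (q : EP E T ⟶ Q) (t : T'.left)
    (v : (EP E T).presheaf.stalk (g.left t)) :
    stalkLin (bc g q) t (th g t v) = uS g.left Q t (stalkLin q (g.left t) v) := by
  rw [bc_eq_id, stalkLin_comp, ← uS_natural]
  refine congrArg _ ?_
  exact stalkLin_iso_symm (asIso (bc g (𝟙 (EP E T)))).symm t _

theorem th_comp (g : T' ⟶ T) (f : T'' ⟶ T') (t : T''.left) (v : (EP E T).presheaf.stalk (g.left (f.left t))) :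
    th f t (th g (f.left t) v) = th (f ≫ g) t v := by
  refine (bijective_stalkLin (bc (f ≫ g) (𝟙 (EP E T))) t).1 ?_
  refine (Eq.trans ?_ (bc_th (f ≫ g) (𝟙 _) t v).symm)
  have h : bc (f ≫ g) (𝟙 (EP E T)) = bc f (bc g (𝟙 (EP E T))) ≫
      (Scheme.Modules.pullbackComp f.left g.left).hom.app (EP E T) := by
    rw [← bc_bc, Category.assoc, Iso.inv_hom_id_app]
    exact (Category.comp_id _).symm
  rw [h, stalkLin_comp, bc_th, bc_th, stalkLin_id_apply, stalkLin_id_apply]
  obtain ⟨U, hU, m, rfl⟩ := TopCat.Presheaf.exists_germ_eq (EP E T).presheaf v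
  exact pullbackComp_pullSec f.left g.left (EP E T) U t hU _

theorem bijective_uS {Y Z : Scheme.{u}} (f : Y ⟶ Z) (M : Z.Modules) (y : Y) [IsIso (f.stalkMap y)] :
    Function.Bijective (uS f M y) := by
  obtain ⟨e, he, heq⟩ := exists_bijective_uS f M y
  have hb : Function.Bijective (f.stalkMap y).hom :=
    (ConcreteCategory.isIso_iff_bijective (f.stalkMap y)).1 inferInstance
  letI := (f.stalkMap y).hom.toAlgebra
  let i : Z.presheaf.stalk (f y) ≃ₗ[Z.presheaf.stalk (f y)] Y.presheaf.stalk y :=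
    LinearEquiv.ofBijective (Algebra.linearMap (Z.presheaf.stalk (f y)) (Y.presheaf.stalk y)) hb
  have h : Function.Bijective fun m : M.presheaf.stalk (f y) =>
      ((1 : Y.presheaf.stalk y) ⊗ₜ[Z.presheaf.stalk (f y)] m) := by
    have hc : (fun m : M.presheaf.stalk (f y) => ((1 : Y.presheaf.stalk y) ⊗ₜ[Z.presheaf.stalk (f y)] m)) =
        (TensorProduct.congr i (LinearEquiv.refl _ _)) ∘
          (TensorProduct.lid (Z.presheaf.stalk (f y)) (M.presheaf.stalk (f y))).symm := by
      funext m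
      simp [i]
    rw [hc]
    exact (LinearEquiv.bijective _).comp (LinearEquiv.bijective _)
  have : (uS f M y : M.presheaf.stalk (f y) → _) = e ∘ fun m =>
      ((1 : Y.presheaf.stalk y) ⊗ₜ[Z.presheaf.stalk (f y)] m) := funext fun m => (heq m).symm
  rw [this]
  exact he.comp h

theorem bijective_th (g : T' ⟶ T) [IsOpenImmersion g.left] (t : T'.left) : Function.Bijective (th (E := E) g t) :=
  (bijective_stalkLin (inv (bc g (𝟙 (EP E T)))) t).comp (bijective_uS g.left _ t)

/-- Transport of sections along a morphism over the base. -/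
def sec (g : T' ⟶ T) (U : T.left.Opens) (s : Γ(EP E T, U)) : Γ(EP E T', g.left ⁻¹ᵁ U) :=
  (inv (bc g (𝟙 (EP E T)))).app _ (OX.pullSec g.left (EP E T) U s)

theorem germ_sec (g : T' ⟶ T) (U : T.left.Opens) (s : Γ(EP E T, U)) (t : T'.left) (ht : g.left t ∈ U) :
    (EP E T').presheaf.germ (g.left ⁻¹ᵁ U) t ht (sec g U s) =
      th g t ((EP E T).presheaf.germ U (g.left t) ht s) := by
  show _ = stalkLin _ t (uS g.left (EP E T) t _)
  rw [uS_germ]
  exact (stalkLin_germ (inv (bc g (𝟙 (EP E T)))) (U := g.left ⁻¹ᵁ U) ht _).symm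

theorem section_ext {Y : Scheme.{u}} {M : Y.Modules} {U : Y.Opens} {s s' : Γ(M, U)}
    (h : ∀ (x : Y) (hx : x ∈ U), M.presheaf.germ U x hx s = M.presheaf.germ U x hx s') : s = s' := by
  rw [← sub_eq_zero]
  exact GrothLib.QCoh.section_eq_zero_of_germ M _ fun x hx => by rw [map_sub, h x hx, sub_self]

/-- Transport of global sections. -/
abbrev secT (g : T' ⟶ T) (s : Γ(EP E T, ⊤)) : Γ(EP E T', ⊤) := sec g ⊤ s

theorem secT_comp (g : T' ⟶ T) (f : T'' ⟶ T') (s : Γ(EP E T, ⊤)) :
    secT f (secT g s) = secT (f ≫ g) s := section_ext fun t ht => by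
  erw [germ_sec f ⊤ (secT g s) t ht, germ_sec g ⊤ s (f.left t) ht, germ_sec (f ≫ g) ⊤ s t ht]
  exact th_comp g f t _

theorem pullSec_smul {Y Z : Scheme.{u}} (f : Y ⟶ Z) (M : Z.Modules) (U : Z.Opens) (r : Γ(Z, U)) (m : Γ(M, U)) :
    (show Γ((Scheme.Modules.pullback f).obj M, f ⁻¹ᵁ U) from OX.pullSec f M U (r • m : Γ(M, U))) =
      f.app U r • (show Γ((Scheme.Modules.pullback f).obj M, f ⁻¹ᵁ U) from OX.pullSec f M U m) :=
  ((Scheme.Modules.pullbackPushforwardAdjunction f).unit.app M).app_smul r m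

theorem pullSec_add {Y Z : Scheme.{u}} (f : Y ⟶ Z) (M : Z.Modules) (U : Z.Opens) (m m' : Γ(M, U)) :
    (show Γ((Scheme.Modules.pullback f).obj M, f ⁻¹ᵁ U) from OX.pullSec f M U (m + m' : Γ(M, U))) =
      OX.pullSec f M U m + OX.pullSec f M U m' :=
  map_add (((Scheme.Modules.pullbackPushforwardAdjunction f).unit.app M).app U).hom m m'

theorem secT_add (g : T' ⟶ T) (s s' : Γ(EP E T, ⊤)) : secT g (s + s') = secT g s + secT g s' :=
  (congrArg ((inv (bc g (𝟙 (EP E T)))).app _) (pullSec_add g.left (EP E T) ⊤ s s')).trans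
    (map_add ((inv (bc g (𝟙 (EP E T)))).app _).hom _ _)

theorem secT_smul (g : T' ⟶ T) (r : Γ(T.left, ⊤)) (s : Γ(EP E T, ⊤)) :
    secT g (r • s) = g.left.appTop r • secT g s :=
  (congrArg ((inv (bc g (𝟙 (EP E T)))).app _) (pullSec_smul g.left (EP E T) ⊤ r s)).trans
    ((inv (bc g (𝟙 (EP E T)))).app_smul _ _)

theorem bc_app (g : T' ⟶ T) {Q : T.left.Modules} (q : EP E T ⟶ Q) (s : Γ(EP E T, ⊤)) :
    (bc g q).app ⊤ (secT g s) =
      (show Γ((Scheme.Modules.pullback g.left).obj Q, g.left ⁻¹ᵁ ⊤) from OX.pullSec g.left Q ⊤ (q.app ⊤ s)) :=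
  section_ext fun t ht => by
    rw [← stalkLin_germ (bc g q) ht]
    erw [germ_sec g ⊤ s t ht, bc_th, stalkLin_germ q]
    exact uS_germ g.left Q t (U := ⊤) trivial _

theorem stalkLin_th_mem {Q : T.left.Modules} {q : EP E T ⟶ Q} (g : T' ⟶ T) (t : T'.left)
    (v : (EP E T).presheaf.stalk (g.left t)) (h : stalkLin q (g.left t) v = 0) :
    stalkLin (bc g q) t (th g t v) = 0 := by
  rw [bc_th, h, map_zero]

theorem stalkLin_th_eq_zero_iff {Q : T.left.Modules} (q : EP E T ⟶ Q) (g : T' ⟶ T) [IsOpenImmersion g.left]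
    (t : T'.left) (v : (EP E T).presheaf.stalk (g.left t)) :
    stalkLin (bc g q) t (th g t v) = 0 ↔ stalkLin q (g.left t) v = 0 := by
  rw [bc_th]
  exact ⟨fun h => (bijective_uS g.left Q t).1 (h.trans (map_zero _).symm), fun h => by rw [h, map_zero]⟩

end GrothLib.GrassSch26
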