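import Groth.Agent.Lib.GrassSch26.WedgeStalk
import Groth.Agent.Lib.GrassSch26.Main

/-!
# The top exterior power of a quotient, as a rank one quotient of the exterior power
-/

set_option autoImplicit false
set_option linter.style.haveILetI false
set_option backward.isDefEq.respectTransparency false
set_option linter.unusedSectionVars false
set_option synthInstance.maxHeartbeats 200000
set_option maxHeartbeats 800000
universe u

noncomputable section

open CategoryTheory CategoryTheory.Limits AlgebraicGeometry Opposite TopologicalSpace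
open GrothLib.QCoh (stalkLin stalkLin_comp stalkLin_germ stalkLin_injective germ_map)
open GrothLib.QuotTan26 GrothLib.RepLocal
open GrothLib.ExtPowX (wedge eta wPre)

namespace GrothLib.GrassSch26

section Map

variable {Y : Scheme.{u}} {M Q : Y.Modules} (φ : M ⟶ Q) (k : ℕ)

/-- A map on sections, as a linear map. -/
def appL (U : Y.Opens) : Γ(M, U) →ₗ[Γ(Y, U)] Γ(Q, U) where
  toFun x := φ.app U x
  map_add' := map_add (φ.app U).hom
  map_smul' c x := Scheme.Modules.Hom.app_smul φ c x

/-- The comparison on sections. -/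
def wApp (U : Y.Opens) (z : ↥(⋀[Γ(Y, U)]^k Γ(M, U))) : Γ(wedge Q k, U) :=
  eta Q k U (ExtPowX.extMap k (appL φ U) z)

theorem wApp_add (U : Y.Opens) (a b : ↥(⋀[Γ(Y, U)]^k Γ(M, U))) :
    wApp φ k U (a + b) = wApp φ k U a + wApp φ k U b :=
  (congrArg _ (map_add (ExtPowX.extMap k (appL φ U)) a b)).trans (map_add (eta Q k U) _ _)

theorem wApp_res {U V : Y.Opens} (h : V ≤ U) (z : ↥(⋀[Γ(Y, U)]^k Γ(M, U))) :
    wApp φ k V (ExtPowX.wRes M k h z) = InvExt.mres (wedge Q k) h (wApp φ k U z) :=
  (congrArg (eta Q k V) (ExtPowX.extMap_comm k (ExtPowX.resL M h) (appL φ V) (appL φ U) (ExtPowX.resL Q h)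
    (fun _ => rfl) (fun m => PresheafOfModules.naturality_apply φ.val (homOfLE h).op m) z)).trans
    (ExtPowX.mres_eta Q k h _).symm

theorem wApp_smul (U : Y.Opens) (c : Γ(Y, U)) (z : ↥(⋀[Γ(Y, U)]^k Γ(M, U))) :
    wApp φ k U (c • z) = c • wApp φ k U z := by
  rw [wApp, map_smulₛₗ, map_smul]
  rfl

/-- The map of presheaves of exterior powers, to the sheaf. -/
def wedgeAb : (wPre M k).presheaf ⟶ (wedge Q k).presheaf where
  app U := AddCommGrpCat.ofHom (AddMonoidHom.mk' (wApp φ k U.unop) (wApp_add φ k U.unop))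
  naturality U V i := AddCommGrpCat.ext fun z => wApp_res φ k (leOfHom i.unop) z

/-- The exterior power of a map. -/
def wedgeMap : wedge M k ⟶ wedge Q k :=
  (PresheafOfModules.sheafificationHomEquiv (R := Y.ringCatSheaf) (𝟙 Y.ringCatSheaf.obj)).symm
    (PresheafOfModules.homMk (M₁ := wPre M k) (M₂ := (wedge Q k).val) (wedgeAb φ k)
      fun U c z => wApp_smul φ k U.unop c z)

theorem wedgeMap_eta (U : Y.Opens) (v : Fin k → Γ(M, U)) :
    (wedgeMap φ k).app U (eta M k U (exteriorPower.ιMulti _ k v)) =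
      eta Q k U (exteriorPower.ιMulti _ k fun i => φ.app U (v i)) := by
  have h : PresheafOfModules.sheafificationHomEquiv (R := Y.ringCatSheaf) (𝟙 Y.ringCatSheaf.obj)
      (P := wPre M k) (F := wedge Q k) (wedgeMap φ k) =
    PresheafOfModules.homMk (M₁ := wPre M k) (M₂ := (wedge Q k).val) (wedgeAb φ k)
      (fun U c z => wApp_smul φ k U.unop c z) := Equiv.apply_symm_apply _ _
  refine (ConcreteCategory.congr_hom (congrArg (fun ψ => ((PresheafOfModules.toPresheaf _).map ψ).app (op U)) h)
    (exteriorPower.ιMulti Γ(Y, U) k v)).trans ?_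
  show eta Q k U (ExtPowX.extMap k (appL φ U) (exteriorPower.ιMulti _ k v)) = _
  rw [ExtPowX.extMap_ιMulti]
  rfl

theorem wedgeMap_gw {U : Y.Opens} (t : Y) (ht : t ∈ U) (v : Fin k → Γ(M, U)) :
    stalkLin (wedgeMap φ k) t ((wedge M k).presheaf.germ U t ht (eta M k U (exteriorPower.ιMulti _ k v))) =
      gw t fun i => stalkLin φ t (M.presheaf.germ U t ht (v i)) := by
  rw [stalkLin_germ, wedgeMap_eta, ← gw_germ t ht]
  exact congrArg (gw t) (funext fun i => (stalkLin_germ φ ht (v i)).symm)

theorem wedgeMap_gw' (t : Y) (x : Fin k → M.presheaf.stalk t) :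
    stalkLin (wedgeMap φ k) t (gw t x) = gw t fun i => stalkLin φ t (x i) := by
  obtain ⟨U, hU, s, hs⟩ := exists_common_nhd t x
  obtain rfl : (fun i => M.presheaf.germ U t hU (s i)) = x := funext hs
  rw [gw_germ]
  exact wedgeMap_gw φ k t hU s

end Map

section Transpose

variable {Y Z : Scheme.{u}} (f : Y ⟶ Z) (M : Z.Modules) (k : ℕ)

/-- The comparison from the pullback of an exterior power. -/
def tr : (Scheme.Modules.pullback f).obj (wedge M k) ⟶ wedge ((Scheme.Modules.pullback f).obj M) k :=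
  ((Scheme.Modules.pullbackPushforwardAdjunction f).homEquiv _ _).symm (ExtPowX.cmp f M k)

theorem tr_gw {U : Z.Opens} (t : Y) (ht : f t ∈ U) (v : Fin k → Γ(M, U)) :
    stalkLin (tr f M k) t (uS f (wedge M k) t ((wedge M k).presheaf.germ U (f t) ht
      (eta M k U (exteriorPower.ιMulti _ k v)))) =
      gw t fun i => uS f M t (M.presheaf.germ U (f t) ht (v i)) := by
  rw [uS_germ]
  refine (stalkLin_germ (tr f M k) (U := f ⁻¹ᵁ U) ht _).trans ?_
  have h := homEquiv_app f (tr f M k) U (eta M k U (exteriorPower.ιMulti _ k v))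
  rw [tr, Equiv.apply_symm_apply, ExtPowX.cmp_eta] at h
  rw [tr, ← h]
  refine (congrArg (fun z => (wedge ((Scheme.Modules.pullback f).obj M) k).presheaf.germ (f ⁻¹ᵁ U) t ht
    (eta _ k (f ⁻¹ᵁ U) z)) (ExtPowX.extMap_ιMulti k (ExtPowX.pullL f M U) v)).trans ?_
  rw [← gw_germ t ht]
  refine congrArg (gw t) (funext fun i => ?_)
  rw [uS_germ]
  exact germ_map _ _ _ _

theorem tr_gw' (t : Y) (y : Fin k → M.presheaf.stalk (f t)) :
    stalkLin (tr f M k) t (uS f (wedge M k) t (gw (f t) y)) = gw t fun i => uS f M t (y i) := by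
  obtain ⟨U, hU, s, hs⟩ := exists_common_nhd (f t) y
  obtain rfl : (fun i => M.presheaf.germ U (f t) hU (s i)) = y := funext hs
  rw [gw_germ]
  exact tr_gw f M k t hU s

end Transpose

section Point

variable {X : Scheme.{u}} {E : X.Modules} {k : ℕ}

/-- The image in a pullback of a section over an open, at a point. -/
abbrev gS (E : X.Modules) (T : Over X) {U : X.Opens} (t : T.left) (ht : T.hom t ∈ U) (m : Γ(E, U)) :
    (EP E T).presheaf.stalk t :=
  uS T.hom E t (E.presheaf.germ U (T.hom t) ht m)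

theorem th_gS {E : X.Modules} {T T' : Over X} (g : T' ⟶ T) {U : X.Opens} (t : T'.left) (ht : T.hom (g.left t) ∈ U)
    (ht' : T'.hom t ∈ U) (m : Γ(E, U)) : th g t (gS E T (g.left t) ht m) = gS E T' t ht' m := by
  refine (bijective_stalkLin (bc g (𝟙 (EP E T))) t).1 ?_
  rw [bc_th, stalkLin_id_apply]
  have h : bc g (𝟙 (EP E T)) = (Scheme.Modules.pullbackCongr (Over.w g)).inv.app E ≫
      (Scheme.Modules.pullbackComp g.left T.hom).inv.app E := by
    simp [bc, Grass.quotBC]
  rw [h, stalkLin_comp]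
  have h1 := pullbackCongr_pullSec (Over.w g) E U t ht ht' m
  have h2 := pullbackComp_pullSec g.left T.hom E U t ht m
  have h3 : stalkLin ((Scheme.Modules.pullbackCongr (Over.w g)).inv.app E) t (gS E T' t ht' m) =
      uS (g.left ≫ T.hom) E t (E.presheaf.germ U ((g.left ≫ T.hom) t) ht m) := by
    refine (congrArg (stalkLin ((Scheme.Modules.pullbackCongr (Over.w g)).inv.app E) t) h1.symm).trans ?_
    exact stalkLin_iso_symm ((Scheme.Modules.pullbackCongr (Over.w g)).app E) t _
  rw [h3, ← h2]
  exact (stalkLin_iso_symm ((Scheme.Modules.pullbackComp g.left T.hom).app E) t _).symm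

theorem hom_ext_wedge {T : Over X} {N : T.left.Modules} {φ ψ : EP (wedge E k) T ⟶ N}
    (h : ∀ (U : X.Opens) (t : T.left) (ht : T.hom t ∈ U) (v : Fin k → Γ(E, U)),
      stalkLin φ t (gS (wedge E k) T t ht (eta E k U (exteriorPower.ιMulti _ k v))) =
        stalkLin ψ t (gS (wedge E k) T t ht (eta E k U (exteriorPower.ιMulti _ k v)))) : φ = ψ := by
  refine hom_eq_of_stalk fun t e => ?_
  have he := (span_range_uS T.hom (wedge E k) t).ge (Submodule.mem_top (x := e))
  induction he using Submodule.span_induction with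
  | mem w hw =>
    obtain ⟨z, rfl⟩ := hw
    have hz := (span_range_gw (Q := E) (k := k) (T.hom t)).ge (Submodule.mem_top (x := z))
    induction hz using Submodule.span_induction with
    | mem z hz =>
      obtain ⟨y, rfl⟩ := hz
      obtain ⟨U, hU, s, hs⟩ := exists_common_nhd (T.hom t) y
      obtain rfl : (fun i => E.presheaf.germ U (T.hom t) hU (s i)) = y := funext hs
      rw [gw_germ]
      exact h U t hU s
    | zero => simp
    | add a b _ _ ha hb => simp only [map_add, ha, hb]
    | smul c a _ ha => simp only [uS_smul, map_smul, ha]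
  | zero => simp
  | add a b _ _ ha hb => simp only [map_add, ha, hb]
  | smul c a _ ha => simp only [map_smul, ha]

/-- The wedge of a quotient map. -/
def pl {T : Over X} {Q : T.left.Modules} (q : EP E T ⟶ Q) : EP (wedge E k) T ⟶ wedge Q k :=
  tr T.hom E k ≫ wedgeMap q k

theorem pl_gS {T : Over X} {Q : T.left.Modules} (q : EP E T ⟶ Q) {U : X.Opens} (t : T.left) (ht : T.hom t ∈ U)
    (v : Fin k → Γ(E, U)) :
    stalkLin (pl (k := k) q) t (gS (wedge E k) T t ht (eta E k U (exteriorPower.ιMulti _ k v))) =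
      gw t fun i => stalkLin q t (gS E T t ht (v i)) := by
  rw [pl, stalkLin_comp, tr_gw]
  exact wedgeMap_gw' q k t _

theorem span_gS {T : Over X} (t : T.left) :
    Submodule.span (T.left.presheaf.stalk t) {w | ∃ (U : X.Opens) (ht : T.hom t ∈ U) (m : Γ(E, U)),
      w = gS E T t ht m} = ⊤ := by
  refine eq_top_iff.2 ((span_range_uS T.hom E t).ge.trans (Submodule.span_le.2 ?_))
  rintro _ ⟨z, rfl⟩
  obtain ⟨U, hU, m, rfl⟩ := TopCat.Presheaf.exists_germ_eq E.presheaf z
  exact Submodule.subset_span ⟨U, hU, m, rfl⟩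

theorem epi_pl {T : Over X} {Q : T.left.Modules} (q : EP E T ⟶ Q) (hq : Epi q)
    (hQ : FlatMod.IsFinLocFreeOfRank k Q) : Epi (pl (k := k) q) := by
  haveI := hq
  refine (OX.epi_iff _).2 fun t => (ModuleCat.epi_iff_surjective _).2 (LinearMap.range_eq_top.1 (eq_top_iff.2 ?_))
  refine (span_range_gw t).ge.trans (Submodule.span_le.2 ?_)
  rintro _ ⟨x, rfl⟩
  choose z hz using fun i => stalkLin_surjective q t (x i)
  have key : ∀ z : Fin k → (EP E T).presheaf.stalk t,
      gw t (fun i => stalkLin q t (z i)) ∈ LinearMap.range (stalkLin (pl (k := k) q) t) := by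
    classical
    let A : (EP E T).presheaf.stalk t [⋀^Fin k]→ₗ[T.left.presheaf.stalk t] (wedge Q k).presheaf.stalk t :=
      (gwAlt t).compLinearMap (stalkLin q t)
    let R := LinearMap.range (stalkLin (pl (k := k) q) t)
    suffices ∀ (n : ℕ) (z : Fin k → (EP E T).presheaf.stalk t),
        (∀ i : Fin k, n ≤ i.1 → ∃ (U : X.Opens) (ht : T.hom t ∈ U) (m : Γ(E, U)), z i = gS E T t ht m) →
        A z ∈ R from fun z => this k z fun i hi => absurd i.2 (not_lt.2 hi)
    intro n
    induction n with
    | zero =>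
      intro z hz
      choose U hU m hm using fun i => hz i (Nat.zero_le _)
      let V : X.Opens := ⟨⋂ i, (U i : Set X), isOpen_iInter_of_finite fun i => (U i).2⟩
      have hV : T.hom t ∈ V := Set.mem_iInter.2 hU
      have hVU : ∀ i, V ≤ U i := fun i y hy => Set.mem_iInter.1 hy i
      refine ⟨_, (pl_gS q t hV fun i => E.presheaf.map (homOfLE (hVU i)).op (m i)).trans ?_⟩
      refine congrArg (gw t) (funext fun i => congrArg (stalkLin q t) ?_)
      rw [hm i, gS, gS, germ_map]
    | succ n ih =>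
      intro z hz
      by_cases hn : n < k
      · let i₀ : Fin k := ⟨n, hn⟩
        have hmem := (span_gS (E := E) t).ge (Submodule.mem_top (x := z i₀))
        suffices ∀ w ∈ Submodule.span (T.left.presheaf.stalk t) {w | ∃ (U : X.Opens) (ht : T.hom t ∈ U) (m : Γ(E, U)),
            w = gS E T t ht m}, A (Function.update z i₀ w) ∈ R by
          simpa using this (z i₀) hmem
        intro w hw
        induction hw using Submodule.span_induction with
        | mem w hw =>
          refine ih _ fun i hi => ?_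
          rcases eq_or_ne i i₀ with rfl | hne
          · rw [Function.update_self]; exact hw
          · rw [Function.update_of_ne hne]
            exact hz i (Nat.lt_of_le_of_ne hi fun e => hne (Fin.ext e.symm))
        | zero => rw [AlternatingMap.map_update_zero]; exact zero_mem _
        | add a b _ _ ha hb => rw [AlternatingMap.map_update_add]; exact add_mem ha hb
        | smul c a _ ha => rw [AlternatingMap.map_update_smul]; exact Submodule.smul_mem _ c ha
      · exact ih z fun i hi => absurd i.2 (by omega)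
  have := key z
  simp only [hz] at this
  exact this

/-- The Plücker point of a quotient. -/
def plPt {T : Over X} (x : Obj E k T) : Obj (wedge E k) 1 T :=
  mkQ (pl (cokernel.π x.1.arrow)) (epi_pl _ inferInstance x.2) (isFinLocFreeOfRank_wedge x.2)

theorem plPt_mkQ {T : Over X} {Q : T.left.Modules} (q : EP E T ⟶ Q) (hq : Epi q)
    (hQ : FlatMod.IsFinLocFreeOfRank k Q) :
    plPt (mkQ q hq hQ) = mkQ (pl q) (epi_pl q hq hQ) (isFinLocFreeOfRank_wedge hQ) := by
  haveI := hq
  obtain ⟨e, he⟩ := exists_coker_iso q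
  haveI : Epi (pl (k := k) q) := epi_pl q hq hQ
  have h : pl (k := k) (cokernel.π (mkQ q hq hQ).1.arrow) ≫ wedgeMap e.hom k = pl q := hom_ext_wedge fun U t ht v => by
    rw [stalkLin_comp, pl_gS, pl_gS]
    refine (wedgeMap_gw' e.hom k t _).trans ?_
    refine congrArg (gw t) (funext fun i => ?_)
    exact (stalkLin_comp _ e.hom t _).symm.trans (congrArg (fun f => stalkLin f t _) he)
  haveI : Epi (wedgeMap e.hom k) := epi_of_epi_fac h
  haveI : IsIso (wedgeMap e.hom k) := isIso_of_epi_rank_one (isFinLocFreeOfRank_wedge (mkQ q hq hQ).2)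
    (isFinLocFreeOfRank_wedge hQ) _
  exact mkQ_eq_iff.2 ⟨asIso (wedgeMap e.hom k), h⟩
where
  isIso_of_epi_rank_one {Y : Scheme.{u}} {M N : Y.Modules} (hM : FlatMod.IsFinLocFreeOfRank 1 M)
      (hN : FlatMod.IsFinLocFreeOfRank 1 N) (f : M ⟶ N) [Epi f] : IsIso f :=
    (OX.isIso_iff f).2 fun y => (ConcreteCategory.isIso_iff_bijective _).2 (by
      obtain ⟨b⟩ := nonempty_stalk_basis hM y
      obtain ⟨b'⟩ := nonempty_stalk_basis hN y
      exact bijective_of_span b b' _ (stalkLin_surjective f y))

theorem plPt_omap {T T' : Over X} (g : T' ⟶ T) (x : Obj E k T) : omap g (plPt x) = plPt (omap g x) := by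
  obtain ⟨Q, q, hq, hQ, rfl⟩ := exists_eq_mkQ x
  haveI := hq
  rw [plPt_mkQ, omap_mkQ, omap_mkQ, plPt_mkQ]
  have h : bc g (pl (k := k) q) ≫ tr g.left Q k = pl (bc g q) := hom_ext_wedge fun U t ht v => by
    have ht' : T.hom (g.left t) ∈ U := by rw [← Scheme.Hom.comp_apply, Over.w g]; exact ht
    rw [stalkLin_comp, pl_gS, ← th_gS g t ht' ht, bc_th, pl_gS, tr_gw']
    refine congrArg (gw t) (funext fun i => ?_)
    rw [← th_gS g t ht' ht, bc_th]
  haveI : Epi (pl (k := k) (bc g q)) := epi_pl _ inferInstance (OX.isFinLocFreeOfRank_pullback g.left hQ)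
  haveI : Epi (tr g.left Q k) := epi_of_epi_fac h
  haveI : IsIso (tr g.left Q k) := plPt_mkQ.isIso_of_epi_rank_one
    (OX.isFinLocFreeOfRank_pullback g.left (isFinLocFreeOfRank_wedge hQ))
    (isFinLocFreeOfRank_wedge (OX.isFinLocFreeOfRank_pullback g.left hQ)) _
  exact mkQ_eq_iff.2 ⟨asIso (tr g.left Q k), h⟩

end Point

end GrothLib.GrassSch26
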