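import Groth.Agent.Lib.GrassSch26.Transport
import Groth.Agent.Lib.GrassSch26.Frame
import Groth.Agent.Lib.ExtPowX.Pullback

/-!
# Top exterior powers of bundles on stalks
-/

set_option autoImplicit false
set_option linter.style.haveILetI false
set_option backward.isDefEq.respectTransparency false
set_option linter.unusedSectionVars false
universe u

noncomputable section

open CategoryTheory CategoryTheory.Limits AlgebraicGeometry Opposite TopologicalSpace
open GrothLib.QCoh (stalkLin stalkLin_comp stalkLin_germ stalkLin_injective germ_map)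
open GrothLib.QuotTan26
open GrothLib.ExtPowX (wedge eta)

namespace GrothLib.GrassSch26

variable {Y : Scheme.{u}} {Q : Y.Modules} {k : ℕ}

theorem exists_common_nhd (t : Y) (x : Fin k → Q.presheaf.stalk t) :
    ∃ (U : Y.Opens) (ht : t ∈ U) (s : Fin k → Γ(Q, U)), ∀ i, Q.presheaf.germ U t ht (s i) = x i := by
  choose W hW s hs using fun i => TopCat.Presheaf.exists_germ_eq Q.presheaf (x i)
  let U : Y.Opens := ⟨⋂ i, (W i : Set Y), isOpen_iInter_of_finite fun i => (W i).2⟩
  have hU : ∀ i, U ≤ W i := fun i z hz => Set.mem_iInter.1 hz i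
  exact ⟨U, Set.mem_iInter.2 hW, fun i => Q.presheaf.map (homOfLE (hU i)).op (s i),
    fun i => (germ_map Q _ _ _).trans (hs i)⟩

/-- The wedge of stalk elements. -/
def gw (t : Y) (x : Fin k → Q.presheaf.stalk t) : (wedge Q k).presheaf.stalk t :=
  (wedge Q k).presheaf.germ _ t (exists_common_nhd t x).choose_spec.choose
    (eta Q k _ (exteriorPower.ιMulti _ k (exists_common_nhd t x).choose_spec.choose_spec.choose))

theorem germ_eta_map {U V : Y.Opens} (h : V ≤ U) (t : Y) (ht : t ∈ V) (s : Fin k → Γ(Q, U)) :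
    (wedge Q k).presheaf.germ U t (h ht) (eta Q k U (exteriorPower.ιMulti _ k s)) =
      (wedge Q k).presheaf.germ V t ht
        (eta Q k V (exteriorPower.ιMulti _ k fun i => Q.presheaf.map (homOfLE h).op (s i))) := by
  rw [← germ_map (wedge Q k) (homOfLE h) ht]
  refine congrArg _ ((ExtPowX.mres_eta Q k h _).trans ?_)
  rw [ExtPowX.wRes_ιMulti]

theorem gw_germ {U : Y.Opens} (t : Y) (ht : t ∈ U) (s : Fin k → Γ(Q, U)) :
    gw t (fun i => Q.presheaf.germ U t ht (s i)) =
      (wedge Q k).presheaf.germ U t ht (eta Q k U (exteriorPower.ιMulti _ k s)) := by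
  let h0 := exists_common_nhd t fun i => Q.presheaf.germ U t ht (s i)
  let U' := h0.choose
  have hU' : t ∈ U' := h0.choose_spec.choose
  let s' : Fin k → Γ(Q, U') := h0.choose_spec.choose_spec.choose
  have hs : ∀ i, Q.presheaf.germ U' t hU' (s' i) = Q.presheaf.germ U t ht (s i) :=
    h0.choose_spec.choose_spec.choose_spec
  show (wedge Q k).presheaf.germ U' t hU' (eta Q k U' (exteriorPower.ιMulti _ k s')) = _
  choose W hW i₁ i₂ e using fun i => TopCat.Presheaf.germ_eq Q.presheaf t hU' ht _ _ (hs i)
  let V : Y.Opens := ⟨⋂ i, (W i : Set Y), isOpen_iInter_of_finite fun i => (W i).2⟩ ⊓ (U' ⊓ U)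
  have hV : t ∈ V := ⟨Set.mem_iInter.2 hW, hU', ht⟩
  rw [germ_eta_map (inf_le_right.trans inf_le_left : V ≤ U') t hV,
    germ_eta_map (inf_le_right.trans inf_le_right : V ≤ U) t hV]
  refine congrArg (fun v => (wedge Q k).presheaf.germ V t hV (eta Q k V (exteriorPower.ιMulti _ k v))) (funext fun i => ?_)
  have hVW : V ≤ W i := fun z hz => Set.mem_iInter.1 hz.1 i
  have := congrArg (Q.presheaf.map (homOfLE hVW).op) (e i)
  rw [← ConcreteCategory.comp_apply, ← ConcreteCategory.comp_apply, ← Functor.map_comp, ← Functor.map_comp] at this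
  exact this

theorem gw_update_add [DecidableEq (Fin k)] (t : Y) (x : Fin k → Q.presheaf.stalk t) (i : Fin k)
    (a b : Q.presheaf.stalk t) :
    gw t (Function.update x i (a + b)) = gw t (Function.update x i a) + gw t (Function.update x i b) := by
  obtain ⟨U, hU, s, hs⟩ := exists_common_nhd t x
  obtain ⟨V, hV, ab, hab⟩ := exists_common_nhd (k := 2) t ![a, b]
  let W := U ⊓ V
  have hW : t ∈ W := ⟨hU, hV⟩
  let s' : Fin k → Γ(Q, W) := fun j => Q.presheaf.map (homOfLE inf_le_left).op (s j)
  let a' : Γ(Q, W) := Q.presheaf.map (homOfLE inf_le_right).op (ab 0)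
  let b' : Γ(Q, W) := Q.presheaf.map (homOfLE inf_le_right).op (ab 1)
  have key : ∀ (c : Q.presheaf.stalk t) (c' : Γ(Q, W)), Q.presheaf.germ W t hW c' = c →
      gw t (Function.update x i c) =
        (wedge Q k).presheaf.germ W t hW (eta Q k W (exteriorPower.ιMulti _ k (Function.update s' i c'))) := by
    intro c c' hc
    rw [← gw_germ t hW]
    refine congrArg (gw t) (funext fun j => ?_)
    rcases eq_or_ne j i with rfl | hj
    · rw [Function.update_self, Function.update_self, hc]
    · rw [Function.update_of_ne hj, Function.update_of_ne hj, germ_map, hs]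
  have ha : Q.presheaf.germ W t hW a' = a := (germ_map Q _ _ _).trans (hab 0)
  have hb : Q.presheaf.germ W t hW b' = b := (germ_map Q _ _ _).trans (hab 1)
  rw [key (a + b) (a' + b') (by rw [map_add, ha, hb]), key a a' ha, key b b' hb, AlternatingMap.map_update_add,
    map_add, map_add]

theorem gw_update_smul [DecidableEq (Fin k)] (t : Y) (x : Fin k → Q.presheaf.stalk t) (i : Fin k)
    (r : Y.presheaf.stalk t) (a : Q.presheaf.stalk t) :
    gw t (Function.update x i (r • a)) = r • gw t (Function.update x i a) := by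
  obtain ⟨U, hU, s, hs⟩ := exists_common_nhd t x
  obtain ⟨V, hV, a₀, ha₀⟩ := TopCat.Presheaf.exists_germ_eq Q.presheaf a
  obtain ⟨V', hV', r₀, rfl⟩ := TopCat.Presheaf.exists_germ_eq Y.presheaf r
  let W := U ⊓ (V ⊓ V')
  have hW : t ∈ W := ⟨hU, hV, hV'⟩
  let s' : Fin k → Γ(Q, W) := fun j => Q.presheaf.map (homOfLE inf_le_left).op (s j)
  let a' : Γ(Q, W) := Q.presheaf.map (homOfLE (inf_le_right.trans inf_le_left)).op a₀
  let r' : Γ(Y, W) := Y.presheaf.map (homOfLE (inf_le_right.trans inf_le_right)).op r₀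
  have key : ∀ (c : Q.presheaf.stalk t) (c' : Γ(Q, W)), Q.presheaf.germ W t hW c' = c →
      gw t (Function.update x i c) =
        (wedge Q k).presheaf.germ W t hW (eta Q k W (exteriorPower.ιMulti _ k (Function.update s' i c'))) := by
    intro c c' hc
    rw [← gw_germ t hW]
    refine congrArg (gw t) (funext fun j => ?_)
    rcases eq_or_ne j i with rfl | hj
    · rw [Function.update_self, Function.update_self, hc]
    · rw [Function.update_of_ne hj, Function.update_of_ne hj, germ_map, hs]
  have ha : Q.presheaf.germ W t hW a' = a := (germ_map Q _ _ _).trans ha₀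
  have hr : Y.presheaf.germ W t hW r' = Y.presheaf.germ V' t hV' r₀ := TopCat.Presheaf.germ_res_apply _ _ _ _ _
  rw [key _ (r' • a') (by rw [WeakAss.germ_smul, ha, hr]), key a a' ha, AlternatingMap.map_update_smul, map_smul,
    WeakAss.germ_smul, hr]

theorem gw_eq_zero (t : Y) (x : Fin k → Q.presheaf.stalk t) (i j : Fin k) (h : x i = x j) (hij : i ≠ j) :
    gw t x = 0 := by
  classical
  obtain ⟨U, hU, s, hs⟩ := exists_common_nhd t x
  let s' : Fin k → Γ(Q, U) := fun l => if l = j then s i else s l
  have hx : x = fun l => Q.presheaf.germ U t hU (s' l) := funext fun l => by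
    show x l = Q.presheaf.germ U t hU (if l = j then s i else s l)
    split_ifs with hl
    · rw [hs, hl, h]
    · rw [hs]
  rw [hx, gw_germ, (exteriorPower.ιMulti Γ(Y, U) k).map_eq_zero_of_eq s' (i := i) (j := j) (by simp [s']) hij,
    map_zero, map_zero]

/-- The wedge as an alternating map. -/
def gwAlt (t : Y) : Q.presheaf.stalk t [⋀^Fin k]→ₗ[Y.presheaf.stalk t] (wedge Q k).presheaf.stalk t where
  toFun := gw t
  map_update_add' x i a b := gw_update_add t x i a b
  map_update_smul' x i r a := gw_update_smul t x i r a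
  map_eq_zero_of_eq' x i j h hij := gw_eq_zero t x i j h hij

theorem gw_basis {t : Y} (b : Module.Basis (Fin k) (Y.presheaf.stalk t) (Q.presheaf.stalk t))
    (x : Fin k → Q.presheaf.stalk t) : gw t x = b.det x • gw t b := by
  have h : gwAlt (Q := Q) t = b.det.smulRight (gwAlt (Q := Q) t b) := by
    refine Module.Basis.ext_alternating b fun i hi => ?_
    let σ : Equiv.Perm (Fin k) := Equiv.ofBijective i (Finite.injective_iff_bijective.1 hi)
    show gwAlt (Q := Q) t (b ∘ σ) = b.det (b ∘ σ) • gwAlt (Q := Q) t b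
    rw [AlternatingMap.map_perm, AlternatingMap.map_perm, Module.Basis.det_self]
    rcases Int.units_eq_one_or (Equiv.Perm.sign σ) with e | e <;> simp [e]
  exact congrArg (fun f : Q.presheaf.stalk t [⋀^Fin k]→ₗ[Y.presheaf.stalk t] (wedge Q k).presheaf.stalk t => f x) h

theorem span_range_gw (t : Y) :
    Submodule.span (Y.presheaf.stalk t) (Set.range (gw (Q := Q) (k := k) t)) = ⊤ := by
  refine eq_top_iff.2 fun v hv => ?_
  clear hv
  obtain ⟨W, hW, m, rfl⟩ := TopCat.Presheaf.exists_germ_eq (wedge Q k).presheaf v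
  obtain ⟨V, hV, z, htV, hz⟩ := ExtPowX.eta_locSurj Q k m t hW
  rw [← germ_map (wedge Q k) (homOfLE hV) htV, show (wedge Q k).presheaf.map (homOfLE hV).op m = _ from hz.symm]
  have hz' : z ∈ Submodule.span Γ(Y, V) (Set.range (exteriorPower.ιMulti Γ(Y, V) k (M := Γ(Q, V)))) := by
    rw [exteriorPower.ιMulti_span]; exact Submodule.mem_top
  clear hz
  induction hz' using Submodule.span_induction with
  | mem w hw =>
    obtain ⟨s, rfl⟩ := hw
    exact Submodule.subset_span ⟨_, gw_germ t htV s⟩
  | zero => rw [map_zero, map_zero]; exact zero_mem _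
  | add a b _ _ ha hb => rw [map_add, map_add]; exact add_mem ha hb
  | smul c a _ ha => rw [map_smul, WeakAss.germ_smul]; exact Submodule.smul_mem _ _ ha

theorem isFinLocFreeOfRank_wedge (hQ : FlatMod.IsFinLocFreeOfRank k Q) :
    FlatMod.IsFinLocFreeOfRank 1 (wedge Q k) := fun x => by
  obtain ⟨U, e, hx, he⟩ := FinCov.exists_frame_nhd_of_rank hQ x
  obtain ⟨i⟩ := FinCov.exists_iso_of_frame (ExtPowX.isFrame_wedge he k)
  refine ⟨U, hx, ⟨i.trans (eqToIso (congrArg (FlatMod.freeMod (U : Scheme.{u})) ?_))⟩⟩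
  rw [← Nat.card_eq_fintype_card, Set.powersetCard.card, Nat.card_fin, Nat.choose_self]

theorem basis_of_span {t : Y} (b : Module.Basis (Fin k) (Y.presheaf.stalk t) (Q.presheaf.stalk t))
    (x : Fin k → Q.presheaf.stalk t) (h : Submodule.span (Y.presheaf.stalk t) (Set.range x) = ⊤) :
    LinearIndependent (Y.presheaf.stalk t) x := by
  rw [Fintype.linearIndependent_iff]
  intro g hg
  have hs : Function.Surjective (Fintype.linearCombination (Y.presheaf.stalk t) x) := by
    rw [← LinearMap.range_eq_top, Fintype.range_linearCombination]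
    exact h
  have hb := bijective_of_span (Pi.basisFun (Y.presheaf.stalk t) (Fin k)) b _ hs
  exact congrFun (hb.1 (a₁ := g) (a₂ := 0) (by rw [map_zero, Fintype.linearCombination_apply, hg]))

theorem span_gw_iff (hQ : FlatMod.IsFinLocFreeOfRank k Q) (t : Y) (x : Fin k → Q.presheaf.stalk t) :
    Submodule.span (Y.presheaf.stalk t) {gw t x} = ⊤ ↔ Submodule.span (Y.presheaf.stalk t) (Set.range x) = ⊤ := by
  obtain ⟨b⟩ := nonempty_stalk_basis hQ t
  obtain ⟨b₁⟩ := nonempty_stalk_basis (isFinLocFreeOfRank_wedge hQ) t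
  have hgen : Submodule.span (Y.presheaf.stalk t) {gw t b} = ⊤ := by
    refine eq_top_iff.2 ((span_range_gw t).ge.trans (Submodule.span_le.2 ?_))
    rintro _ ⟨y, rfl⟩
    rw [gw_basis b y]
    exact Submodule.smul_mem _ _ (Submodule.mem_span_singleton_self _)
  have hli : LinearIndependent (Y.presheaf.stalk t) fun _ : Fin 1 => gw t b := by
    rw [Fintype.linearIndependent_iff]
    intro g hg
    have hs : Function.Surjective (Fintype.linearCombination (Y.presheaf.stalk t) fun _ : Fin 1 => gw t b) := by
      rw [← LinearMap.range_eq_top, Fintype.range_linearCombination, Set.range_const]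
      exact hgen
    have hb := bijective_of_span (Pi.basisFun (Y.presheaf.stalk t) (Fin 1)) b₁ _ hs
    exact congrFun (hb.1 (a₁ := g) (a₂ := 0) (by rw [map_zero, Fintype.linearCombination_apply, hg]))
  constructor
  · intro h
    have hm : gw t b ∈ Submodule.span (Y.presheaf.stalk t) {gw t x} := by rw [h]; trivial
    obtain ⟨c, hc⟩ := Submodule.mem_span_singleton.1 hm
    rw [gw_basis b x, smul_smul] at hc
    have h1 := Fintype.linearIndependent_iff.1 hli (fun _ => c * b.det x - 1)
      (by rw [Fin.sum_univ_one, sub_smul, one_smul, hc, sub_self]) 0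
    exact ((Module.Basis.is_basis_iff_det b).2 (IsUnit.of_mul_eq_one_right _ (sub_eq_zero.1 h1))).2
  · intro h
    have hu := (Module.Basis.is_basis_iff_det b).1 ⟨basis_of_span b x h, h⟩
    rw [gw_basis b x, Submodule.span_singleton_smul_eq hu]
    exact hgen

end GrothLib.GrassSch26
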